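import Mathlib.AlgebraicGeometry.Morphisms.WeaklyEtale
import Mathlib.RingTheory.Etale.Weakly
import Groth.Agent.WEtLib.OverField
import Groth.Agent.WLocalLib.WEtale

/-! weakly etale morphisms of affine schemes versus weakly etale algebras -/

universe u

open CategoryTheory CategoryTheory.Limits AlgebraicGeometry TensorProduct

namespace Groth.Agent.ProEtLib

theorem algebraWeaklyEtale_of_spec (A B : Type u) [CommRing A] [CommRing B] [Algebra A B]
    [h : WeaklyEtale (Spec.map (CommRingCat.ofHom (algebraMap A B)))] : Algebra.WeaklyEtale A B := by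
  have hflat := HasRingHomProperty.Spec_iff (P := (@Flat : MorphismProperty Scheme.{u})).1 h.flat
  have hdiag : Flat (Spec.map (CommRingCat.ofHom
      (Algebra.TensorProduct.lmul' A (S := B)).toRingHom)) := by
    rw [← Category.comp_id (Spec.map (CommRingCat.ofHom _)), ← (pullbackSpecIso A B B).inv_hom_id,
      ← Category.assoc, ← AlgebraicGeometry.diagonal_SpecMap A B]
    exact @Flat.comp _ _ _ _ _ h.flat_diagonal (inferInstance)
  have hlm := HasRingHomProperty.Spec_iff (P := (@Flat : MorphismProperty Scheme.{u})).1 hdiag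
  exact ⟨(RingHom.flat_algebraMap_iff).1 hflat, hlm⟩

theorem weaklyEtale_spec (A B : Type u) [CommRing A] [CommRing B] [Algebra A B]
    [h : Algebra.WeaklyEtale A B] : WeaklyEtale (Spec.map (CommRingCat.ofHom (algebraMap A B))) := by
  refine ⟨HasRingHomProperty.Spec_iff (P := (@Flat : MorphismProperty Scheme.{u})).2
    (RingHom.flat_algebraMap_iff.2 h.flat), ?_⟩
  rw [AlgebraicGeometry.diagonal_SpecMap]
  have hd : Flat (Spec.map (CommRingCat.ofHom
      (Algebra.TensorProduct.lmul' A (S := B)).toRingHom)) :=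
    HasRingHomProperty.Spec_iff (P := (@Flat : MorphismProperty Scheme.{u})).2 h.flat_lmul'
  exact @Flat.comp _ _ _ _ _ hd inferInstance

theorem weaklyEtale_spec_iff {A B : CommRingCat.{u}} (φ : A ⟶ B) :
    WeaklyEtale (Spec.map φ) ↔ (letI := φ.hom.toAlgebra; Algebra.WeaklyEtale A B) := by
  let := φ.hom.toAlgebra
  exact ⟨fun h => @algebraWeaklyEtale_of_spec A B _ _ _ h, fun h => @weaklyEtale_spec A B _ _ _ h⟩

theorem algebraMap_bijective_quotient (K : Type u) [Field K] [IsSepClosed K] (B : Type u) [CommRing B]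
    [Algebra K B] [Algebra.WeaklyEtale K B] (P : Ideal B) [P.IsPrime] :
    Function.Bijective (algebraMap K (B ⧸ P)) := by
  refine ⟨(algebraMap K (B ⧸ P)).injective, fun x => ?_⟩
  obtain ⟨x, rfl⟩ := Ideal.Quotient.mk_surjective x
  have hsep := WEtLib.isSeparable_mk (K := K) P x
  have hi := hsep.isIntegral
  have h1 := IsSepClosed.degree_eq_one_of_irreducible K (minpoly.irreducible hi) hsep
  exact minpoly.mem_range_of_degree_eq_one K (Ideal.Quotient.mk P x) h1

/-- weakly etale schemes over separably closed fields have a section through every point -/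
theorem exists_section_through (K : Type u) [Field K] [IsSepClosed K] {W : Scheme.{u}}
    (q : W ⟶ Spec (CommRingCat.of K)) [WeaklyEtale q] (w : W) :
    ∃ s : Spec (CommRingCat.of K) ⟶ W, s ≫ q = 𝟙 _ ∧ ∀ z, s.base z = w := by
  obtain ⟨U, hU, hwU, -⟩ := exists_isAffineOpen_mem_and_subset (show w ∈ (⊤ : W.Opens) from trivial)
  let φ : CommRingCat.of K ⟶ Γ(W, U) := Spec.preimage (hU.fromSpec ≫ q)
  have hφ : Spec.map φ = hU.fromSpec ≫ q := Spec.map_preimage _
  let := φ.hom.toAlgebra
  have : Algebra.WeaklyEtale K Γ(W, U) := by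
    have : WeaklyEtale (Spec.map φ) := by rw [hφ]; infer_instance
    exact (weaklyEtale_spec_iff φ).1 this
  let P : Spec Γ(W, U) := hU.primeIdealOf ⟨w, hwU⟩
  let e := RingEquiv.ofBijective _ (algebraMap_bijective_quotient K Γ(W, U) P.asIdeal)
  let r : Γ(W, U) ⟶ CommRingCat.of K :=
    CommRingCat.ofHom (e.symm.toRingHom.comp (Ideal.Quotient.mk P.asIdeal))
  refine ⟨Spec.map r ≫ hU.fromSpec, ?_, fun z => ?_⟩
  · rw [Category.assoc, ← hφ, ← Spec.map_comp]
    have : φ ≫ r = 𝟙 _ := by
      ext x
      exact e.symm_apply_apply x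
    rw [this]; exact Spec.map_id _
  · rw [Scheme.Hom.comp_apply]
    have hz : (Spec.map r).base z = P := by
      apply PrimeSpectrum.ext
      change z.asIdeal.comap (e.symm.toRingHom.comp (Ideal.Quotient.mk P.asIdeal)) = P.asIdeal
      rw [← Ideal.comap_comap, (Ideal.eq_bot_or_top z.asIdeal).resolve_right z.isPrime.ne_top,
        ← RingHom.ker_eq_comap_bot,
        (RingHom.injective_iff_ker_eq_bot e.symm.toRingHom).1 e.symm.injective]
      exact Ideal.mk_ker
    rw [hz]
    exact hU.fromSpec_primeIdealOf ⟨w, hwU⟩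

end Groth.Agent.ProEtLib

namespace Groth.Agent.ProEtLib

theorem weaklyEtale_fromSpecStalk (X : Scheme.{u}) (x : X) : WeaklyEtale (X.fromSpecStalk x) := by
  obtain ⟨U, hU, hxU, -⟩ := exists_isAffineOpen_mem_and_subset (show x ∈ (⊤ : X.Opens) from trivial)
  rw [← hU.fromSpecStalk_eq_fromSpecStalk hxU, IsAffineOpen.fromSpecStalk]
  let := (X.presheaf.germ U x hxU).hom.toAlgebra
  have := hU.isLocalization_stalk ⟨x, hxU⟩
  have := WLocalLib.weaklyEtale_localization (hU.primeIdealOf ⟨x, hxU⟩).asIdeal.primeCompl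
    (X.presheaf.stalk x) (A := Γ(X, U))
  have : WeaklyEtale (Spec.map (X.presheaf.germ U x hxU)) := (weaklyEtale_spec_iff _).2 this
  infer_instance

end Groth.Agent.ProEtLib
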