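import Groth.Agent.ProEtLib.EpsColim
import Groth.Agent.SitePullUnit.DerivedClass
import Mathlib.CategoryTheory.Sites.EpiMono

/-! a class of pro-etale sheaves acyclic for sections on limits of affine etale schemes -/

universe u

open CategoryTheory CategoryTheory.Limits AlgebraicGeometry Opposite MorphismProperty

namespace Groth.Agent.ProEtLib

open SitePullUnit ProStage

set_option backward.isDefEq.respectTransparency.types false

variable {X : Scheme.{u}} [ProEtS.EpsCont X]

/-- no higher Cech cohomology on covers by limits of stages -/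
def CechClass (M : ProEtS.AbP X) : Prop :=
  ∀ (U₀ : X.Etale) (_ : IsAffine U₀.left) (W P : X.ProEt) (f : P ⟶ W) (w : W ⟶ (ProEtS.eps X).obj U₀),
    IsPro (ovS w) → IsPro (ovS (f ≫ w)) → ∀ (n : ℕ) (z : M.obj.obj (op ((proPowers f).obj (n + 1)))),
      (proPowers f).d M.obj z = 0 → ∃ v, (proPowers f).d M.obj (n := n) v = z

theorem cechClass_injective (I : ProEtS.AbP X) [Injective I] : CechClass I := by
  intro U₀ _ W P f w _ _ n z hz
  have : Injective I.obj := Injective.injective_of_adjoint (sheafificationAdjunction _ _) I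
  exact (proPowers f).exists_preimage I.obj z hz

theorem cechClass_of_iso {M N : ProEtS.AbP X} (e : M ≅ N) (h : CechClass M) : CechClass N := by
  intro U₀ hU₀ W P f w hW hP n z hz
  obtain ⟨v, hv⟩ := h U₀ hU₀ W P f w hW hP n (e.inv.hom.app _ z) (by
    rw [← Powers.d_natural, hz, map_zero])
  refine ⟨e.hom.hom.app _ v, ?_⟩
  rw [← Powers.d_natural, hv, ← ConcreteCategory.comp_apply, ← NatTrans.comp_app]
  exact ConcreteCategory.congr_hom (NatTrans.congr_app (congrArg (fun q : N ⟶ N => q.hom) e.inv_hom_id) _) z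

variable {S : ShortComplex (ProEtS.AbP X)}

theorem sec_injective (hS : S.ShortExact) (T : X.ProEt) : Function.Injective (S.f.hom.app (op T)) := by
  have := hS.mono_f
  exact (AddCommGrpCat.mono_iff_injective _).1
    (inferInstanceAs (Mono ((sheafToPresheaf _ _ ⋙ (evaluation _ AddCommGrpCat.{u + 1}).obj (op T)).map S.f)))

theorem sec_exact (hS : S.ShortExact) (T : X.ProEt) (x : S.X₂.obj.obj (op T))
    (hx : S.g.hom.app (op T) x = 0) : ∃ y, S.f.hom.app (op T) y = x := by
  have := hS.mono_f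
  exact (ShortComplex.ab_exact_iff _).1 (hS.exact.map_of_mono_of_preservesKernel
    (sheafToPresheaf _ _ ⋙ (evaluation _ AddCommGrpCat.{u + 1}).obj (op T)) inferInstance inferInstance) x hx

theorem surjective_of_criterion (hS : S.ShortExact) {P : X.ProEt} (hP : Criterion P) :
    Function.Surjective (S.g.hom.app (op P)) := by
  intro s
  have := hS.epi_g
  have hl : Sheaf.IsLocallySurjective S.g := (Sheaf.isLocallySurjective_iff_epi' _ S.g).2 this
  obtain ⟨n, D, -, hd, hc, hD⟩ := hP _ (hl.imageSieve_mem s)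
  exact exists_lift_of_disjoint ((sheafCompose _ (CategoryTheory.forget AddCommGrpCat.{u + 1})).map S.g) P
    (fun k : ULift.{u} (Fin n) => D k.down) (fun i j hij => hd fun h => hij (ULift.ext _ _ h))
    (fun x => ⟨⟨(Set.mem_iUnion.1 (hc.symm ▸ Set.mem_univ x)).choose⟩,
      (Set.mem_iUnion.1 (hc.symm ▸ Set.mem_univ x)).choose_spec⟩) s fun k => hD k.down

variable {U₀ : X.Etale} [IsAffine U₀.left] {W : X.ProEt} {w : W ⟶ (ProEtS.eps X).obj U₀}

theorem surjective_of_cechClass (hS : S.ShortExact) (h₁ : CechClass S.X₁) (hW : IsPro (ovS w)) :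
    Function.Surjective (S.g.hom.app (op W)) := by
  intro s
  have := hW.isAffine
  have : IsAffine W.left := hW.isAffine
  obtain ⟨P, g, hcov, hcr, hP⟩ := exists_pro_cover hW
  let D := proPowers g
  let ι₀ : P ⟶ D.obj 0 := D.lift 0 g (fun _ => 𝟙 _) fun _ => Category.id_comp _
  obtain ⟨t₀, ht₀⟩ := surjective_of_criterion hS hcr (S.X₃.obj.map g.op s)
  let t := S.X₂.obj.map (D.pr 0 0).op t₀
  have ht : S.g.hom.app _ t = S.X₃.obj.map (D.toBase 0).op s := by
    rw [NatTrans.naturality_apply, ht₀, ← D.pr_comp 0 0, op_comp, Functor.map_comp, ConcreteCategory.comp_apply]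
  have hdt : S.g.hom.app _ (D.d S.X₂.obj t) = 0 := by
    rw [D.d_natural, ht, Powers.d, Fin.sum_univ_two]
    simp only [← ConcreteCategory.comp_apply, ← Functor.map_comp, ← op_comp, Powers.face, Powers.lift_toBase]
    simp
  obtain ⟨y, hy⟩ := sec_exact hS _ _ hdt
  obtain ⟨b, hb⟩ := h₁ U₀ ‹_› W P g w hW hP 0 y (sec_injective hS _ (by
    rw [D.d_natural, hy, map_zero]; exact D.d_d _ _))
  let t' := t - S.f.hom.app _ b
  have hd' : D.d S.X₂.obj t' = 0 := by
    have hsub : D.d S.X₂.obj t' = D.d S.X₂.obj t - D.d S.X₂.obj (S.f.hom.app _ b) := by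
      simp only [Powers.d, t', map_sub, smul_sub, Finset.sum_sub_distrib]
      rfl
    rw [hsub, ← D.d_natural, hb, hy, sub_self]
  have hsh : Presieve.IsSheafFor (S.X₂.obj ⋙ CategoryTheory.forget AddCommGrpCat.{u + 1})
      (Presieve.ofArrows (fun _ : Unit => D.obj 0) fun _ => D.toBase 0) := by
    rw [Presieve.isSheafFor_iff_generate]
    refine (isSheaf_iff_isSheaf_of_type _ _).1
      ((sheafCompose _ (CategoryTheory.forget AddCommGrpCat.{u + 1})).obj S.X₂).property _ ?_
    refine GrothendieckTopology.superset_covering _ ?_ hcov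
    rintro d h ⟨_, a, _, ⟨⟩, rfl⟩
    exact ⟨_, a ≫ ι₀, D.toBase 0, ⟨()⟩, by rw [Category.assoc, D.lift_toBase]⟩
  obtain ⟨T, hT, -⟩ := (Presieve.isSheafFor_arrows_iff _ _).1 hsh (fun _ => t') fun _ _ Z a a' haa' => by
    have hq : ∀ j : Fin 2, (![a, a'] j ≫ D.pr 0 0) ≫ g = a ≫ D.toBase 0 := by
      intro j
      rw [Category.assoc, D.pr_comp]
      fin_cases j
      · rfl
      · exact haa'.symm
    let L := D.lift 1 _ _ hq
    have hL : ∀ j : Fin 2, L ≫ D.face 0 j = ![a, a'] (j.succAbove 0) := fun j =>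
      D.hom_ext 0 _ _ fun i => by
        obtain rfl : i = 0 := Fin.fin_one_eq_zero i
        rw [Category.assoc, D.face_pr, D.lift_pr]
    have h0 : S.X₂.obj.map L.op (D.d S.X₂.obj t') = 0 := by rw [hd', map_zero]
    rw [Powers.d, Fin.sum_univ_two, map_add, map_zsmul, map_zsmul] at h0
    simp only [← ConcreteCategory.comp_apply, ← Functor.map_comp, ← op_comp, hL] at h0
    change S.X₂.obj.map a.op t' = S.X₂.obj.map a'.op t'
    simp only [Fin.val_zero, Fin.val_one, pow_zero, pow_one, one_smul, neg_smul, Fin.succAbove_zero,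
      show Fin.succAbove (1 : Fin 2) 0 = 0 from rfl] at h0
    exact (sub_eq_zero.1 ((sub_eq_add_neg _ _).trans h0)).symm
  refine ⟨T, S.X₃.2.isSeparated W _ hcov _ _ ?_⟩
  rintro d h ⟨_, a, _, ⟨⟩, rfl⟩
  rw [show a ≫ g = (a ≫ ι₀) ≫ D.toBase 0 by rw [Category.assoc, D.lift_toBase], op_comp, Functor.map_comp,
    ConcreteCategory.comp_apply, ConcreteCategory.comp_apply]
  congr 1
  rw [← NatTrans.naturality_apply, show S.X₂.obj.map (D.toBase 0).op T = t' from hT (), map_sub, ht,
    ← ConcreteCategory.comp_apply, ← NatTrans.comp_app,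
    show S.f.hom ≫ S.g.hom = 0 from congrArg (fun q : S.X₁ ⟶ S.X₃ => q.hom) S.zero]
  exact sub_zero _

theorem cechClass_X₃ (hS : S.ShortExact) (h₁ : CechClass S.X₁) (h₂ : CechClass S.X₂) :
    CechClass S.X₃ := by
  intro U₀ _ W P f w hW hP n z hz
  let D := proPowers f
  obtain ⟨y, hy⟩ := surjective_of_cechClass hS h₁ (isPro_pow hW hP (n + 1)) z
  have h0 : S.g.hom.app _ (D.d S.X₂.obj y) = 0 := by rw [D.d_natural, hy, hz]
  obtain ⟨x, hx⟩ := sec_exact hS _ _ h0
  obtain ⟨x', hx'⟩ := h₁ U₀ ‹_› W P f w hW hP (n + 1) x (sec_injective hS _ (by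
    rw [D.d_natural, hx, map_zero]; exact D.d_d S.X₂.obj y))
  obtain ⟨v, hv⟩ := h₂ U₀ ‹_› W P f w hW hP n (y - S.f.hom.app _ x') (by
    have hsub : D.d S.X₂.obj (y - S.f.hom.app _ x') = D.d S.X₂.obj y - D.d S.X₂.obj (S.f.hom.app _ x') := by
      simp only [Powers.d, map_sub, smul_sub, Finset.sum_sub_distrib]
      rfl
    rw [hsub, ← D.d_natural, hx', hx, sub_self])
  refine ⟨S.g.hom.app _ v, ?_⟩
  rw [← D.d_natural, hv, map_sub, hy, ← ConcreteCategory.comp_apply, ← NatTrans.comp_app,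
    show S.f.hom ≫ S.g.hom = 0 from congrArg (fun q : S.X₁ ⟶ S.X₃ => q.hom) S.zero]
  exact sub_zero _

end Groth.Agent.ProEtLib
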