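import Groth.Agent.ProEtLib.EpsClass
import Groth.Agent.TriCat.AcyclicObj

/-! higher direct images of pulled back sheaves from the pro-etale to the etale site vanish -/

universe u

open CategoryTheory CategoryTheory.Limits AlgebraicGeometry Opposite MorphismProperty

namespace Groth.Agent.ProEtLib

open SitePullUnit ProStage

set_option backward.isDefEq.respectTransparency.types false

variable {X : Scheme.{u}} [ProEtS.EpsCont X]

local notation "G" => ProEtS.eps X
local notation "K" => Scheme.ProEt.topology X

variable (X) in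
/-- the constructed pullback -/
noncomputable abbrev pullC : EtCoh.Ab X ⥤ ProEtS.AbP X :=
  Functor.sheafPullbackConstruction.sheafPullback (ProEtS.eps X) AddCommGrpCat.{u + 1} X.smallEtaleTopology
    (Scheme.ProEt.topology X)

variable (X) in
/-- comparison with the abstract pullback -/
noncomputable def epsPullIso : ProEtS.epsPull X ≅ pullC X :=
  Functor.sheafPullbackConstruction.sheafPullbackIso _ _ _ _

theorem cechClass_epsPull_injective (I : EtCoh.Ab X) [Injective I] : CechClass ((ProEtS.epsPull X).obj I) := by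
  have := repFlat_eps (X := X)
  refine cechClass_of_iso ((epsPullIso X).app I).symm ?_
  intro U₀ _ W P f w hW hP n z hz
  exact exists_preimage_pulled I hW hP n z hz

theorem map_sGerm_app {F F' : EtCoh.Ab X} (φ : F ⟶ F') {d : X.ProEt} {U : X.Etale}
    (b : d ⟶ (ProEtS.eps X).obj U) (x : F.obj.obj (op U)) :
    ((pullC X).map φ).hom.app (op d) (sGerm G K F b x) = sGerm G K F' b (φ.hom.app (op U) x) := by
  refine (NatTrans.naturality_apply ((pullC X).map φ).hom b.op _).trans ?_
  refine congrArg (fun v => ((pullC X).obj F').obj.map b.op v) ?_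
  have h1 : conUnit G K F ≫ Functor.whiskerLeft (ProEtS.eps X).op ((pullC X).map φ).hom =
      φ.hom ≫ conUnit G K F' := by
    apply NatTrans.ext
    funext U'
    change (((ProEtS.eps X).op.lanUnit.app F.obj).app U' ≫ (toSheafify K (lanP G F)).app _) ≫
      ((pullC X).map φ).hom.app _ = _
    have h2 := congrArg (fun η : lanP G F ⟶ _ => η.app ((ProEtS.eps X).op.obj U'))
      (toSheafify_naturality K ((ProEtS.eps X).op.lan.map φ.hom))
    have h3 := NatTrans.congr_app ((ProEtS.eps X).op.lanUnit.naturality φ.hom) U'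
    refine (Category.assoc _ _ _).trans ((congrArg (_ ≫ ·) h2.symm).trans ?_)
    refine (Category.assoc _ _ _).symm.trans ((congrArg (· ≫ _) h3.symm).trans ?_)
    exact Category.assoc _ _ _
  exact ConcreteCategory.congr_hom (NatTrans.congr_app h1 (op U)) x

theorem pullC_preservesMono {F F' : EtCoh.Ab X} (φ : F ⟶ F') [Mono φ] : Mono ((pullC X).map φ) := by
  have := repFlat_eps (X := X)
  have hφ : ∀ U : X.Etale, Function.Injective (φ.hom.app (op U)) := fun U =>
    (AddCommGrpCat.mono_iff_injective _).1 (inferInstanceAs (Mono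
      ((sheafToPresheaf _ _ ⋙ (evaluation _ AddCommGrpCat.{u + 1}).obj (op U)).map φ)))
  refine Sheaf.mono_of_injective _ fun d => ?_
  refine (injective_iff_map_eq_zero _).2 fun s hs => ?_
  obtain ⟨R, hR, hR'⟩ := exists_cover_sGerm G K F (d := d.unop) s
  refine ((pullC X).obj F).2.isSeparated d.unop R hR s 0 fun d' f hf => ?_
  rw [map_zero]
  obtain ⟨U, b, x, hx⟩ := hR' f hf
  have h0 : sGerm G K F' b (φ.hom.app (op U) x) = sGerm G K F' b 0 := by
    rw [← map_sGerm_app, hx, sGerm_zero]
    exact (NatTrans.naturality_apply ((pullC X).map φ).hom f.op s).trans ((congrArg _ hs).trans (map_zero _))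
  obtain ⟨R₁, hR₁, hR₁'⟩ := exists_cover_of_sGerm_eq G K F' b _ _ h0
  refine ((pullC X).obj F).2.isSeparated d' R₁ hR₁ _ 0 fun d'' g hg => ?_
  rw [map_zero]
  refine Eq.trans (congrArg _ hx.symm) ?_
  obtain ⟨U', b', c, hc, hxy⟩ := hR₁' g hg
  refine (map_sGerm G K F g b x).trans ?_
  rw [ ← hc, ← sGerm_map, show F.obj.map c.op x = 0 from hφ U' (by
    rw [NatTrans.naturality_apply, hxy, map_zero, map_zero]), sGerm_zero]
  rfl

instance preservesMono_epsPull : (ProEtS.epsPull X).PreservesMonomorphisms where
  preserves {F F'} φ _ := by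
    have := pullC_preservesMono φ
    exact ((MorphismProperty.monomorphisms _).arrow_mk_iso_iff
      (Arrow.isoOfNatIso (epsPullIso X) (Arrow.mk φ))).2 this

instance preservesColimits_epsPull : PreservesFiniteColimits (ProEtS.epsPull X) :=
  have := (ProEtS.epsAdj X).leftAdjoint_preservesColimits
  inferInstance

instance additive_epsPull : (ProEtS.epsPull X).Additive := (ProEtS.epsAdj X).left_adjoint_additive

theorem shortExact_epsPull {S : ShortComplex (EtCoh.Ab X)} (hS : S.ShortExact) :
    (S.map (ProEtS.epsPull X)).ShortExact where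
  exact := hS.exact.map_of_epi_of_preservesCokernel _ hS.epi_g inferInstance
  mono_f := by have := hS.mono_f; exact inferInstanceAs (Mono ((ProEtS.epsPull X).map S.f))
  epi_g := by have := hS.epi_g; exact inferInstanceAs (Epi ((ProEtS.epsPull X).map S.g))

theorem isPro_id (U : X.Etale) [IsAffine U.left] : IsPro (ovS (𝟙 ((ProEtS.eps X).obj U))) := by
  let O : Over U.left := ovS (𝟙 ((ProEtS.eps X).obj U))
  have : IsAffine O.left := ‹IsAffine U.left›
  let Gc : Discrete PUnit.{u + 1} ⥤ Over U.left := (Functor.const _).obj O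
  have : ∀ i, IsAffine (Gc.obj i).left := fun _ => ‹IsAffine U.left›
  have : ∀ i, Etale (Gc.obj i).hom := fun _ => inferInstanceAs (Etale (𝟙 U.left))
  exact isPro_of_isLimit Gc (𝟙 _)
    { lift := fun s => s.π.app ⟨PUnit.unit⟩
      fac := fun s i => Category.comp_id _
      uniq := fun s m hm => (Category.comp_id m).symm.trans (hm ⟨PUnit.unit⟩) }

theorem epi_epsPush {S : ShortComplex (ProEtS.AbP X)} (hS : S.ShortExact) (h₁ : CechClass S.X₁) :
    Epi ((ProEtS.epsPush X).map S.g) := by
  rw [← Sheaf.isLocallySurjective_iff_epi']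
  refine ⟨fun {U} s => ?_⟩
  rw [EtFound.mem_topology_iff]
  intro z
  obtain ⟨A₁, hA, hz, -⟩ := TopologicalSpace.Opens.isBasis_iff_nbhd.mp U.left.isBasis_affineOpens
    (TopologicalSpace.Opens.mem_top z)
  let A : Scheme.Opens U.left := A₁
  have : Etale U.hom := U.prop
  let U' : X.Etale := Scheme.Etale.mk (A.ι ≫ U.hom)
  have : IsAffine U'.left := hA
  let j : U' ⟶ U := MorphismProperty.Over.homMk A.ι
  obtain ⟨t, ht⟩ := surjective_of_cechClass hS h₁ (isPro_id U')
    (S.X₃.obj.map ((ProEtS.eps X).map j).op s)
  exact ⟨U', j, ⟨z, hz⟩, ⟨t, ht⟩, rfl⟩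

theorem isZero_repsPush_of_cechClass {M : ProEtS.AbP X} (hM : CechClass M) (q : ℕ) :
    IsZero ((ProEtS.RepsPush X (q + 1)).obj M) := by
  have : PreservesFiniteLimits (ProEtS.epsPush X) :=
    have := (ProEtS.epsAdj X).rightAdjoint_preservesLimits
    inferInstance
  exact isZero_rightDerived_of_class (ProEtS.epsPush X) CechClass
    (fun S hS h₁ hI => cechClass_X₃ hS h₁ (@cechClass_injective X _ S.X₂ hI))
    (fun S hS h₁ _ => epi_epsPush hS h₁) hM q

theorem isIso_unit_eps (F : EtCoh.Ab X) : IsIso ((ProEtS.epsAdj X).unit.app F) :=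
  have := repFlat_eps (X := X)
  SitePullUnit.isIso_unit (ProEtS.eps X) (Scheme.ProEt.topology X) F
    (isLocallyInjective_conUnit F) (isLocallySurjective_conUnit F)

/-- higher direct images of pulled back sheaves vanish -/
theorem isZero_repsPush_epsPull (q : ℕ) :
    ∀ F : EtCoh.Ab X, IsZero ((ProEtS.RepsPush X (q + 1)).obj ((ProEtS.epsPull X).obj F)) := by
  have : PreservesFiniteLimits (ProEtS.epsPush X) :=
    have := (ProEtS.epsAdj X).rightAdjoint_preservesLimits
    inferInstance
  induction q with
  | zero =>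
    intro F
    let S := (Classical.arbitrary (InjectivePresentation F)).shortComplex
    have hS : S.ShortExact := InjectivePresentation.shortExact_shortComplex _
    have : Injective S.X₂ := (Classical.arbitrary (InjectivePresentation F)).injective
    let := HasDerivedCategory.standard (ProEtS.AbP X)
    let := HasDerivedCategory.standard (EtCoh.Ab X)
    obtain ⟨δ, w₁, w₂, w₃, -, -, e₃⟩ :=
      TriCat.exists_rightDerived_ses (ProEtS.epsPush X) (shortExact_epsPull hS) 0
    refine e₃.isZero_X₂ ?_ ((isZero_repsPush_of_cechClass (cechClass_epsPull_injective S.X₂) 0).eq_of_tgt _ _)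
    have he : Epi ((ProEtS.epsPush X).map ((ProEtS.epsPull X).map S.g)) := by
      have := isIso_unit_eps (X := X)
      have : IsIso (ProEtS.epsAdj X).unit := NatIso.isIso_of_isIso_app _
      have := hS.epi_g
      exact ((MorphismProperty.epimorphisms _).arrow_mk_iso_iff
        (Arrow.isoOfNatIso (asIso (ProEtS.epsAdj X).unit) (Arrow.mk S.g))).1 this
    have : Epi (((ProEtS.epsPush X).rightDerived 0).map (S.map (ProEtS.epsPull X)).g) :=
      ((MorphismProperty.epimorphisms _).arrow_mk_iso_iff
        (Arrow.isoOfNatIso (ProEtS.epsPush X).rightDerivedZeroIsoSelf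
          (Arrow.mk (S.map (ProEtS.epsPull X)).g))).2 he
    exact (cancel_epi (((ProEtS.epsPush X).rightDerived 0).map (S.map (ProEtS.epsPull X)).g)).1
      (w₂.trans comp_zero.symm)
  | succ q ih =>
    intro F
    let S := (Classical.arbitrary (InjectivePresentation F)).shortComplex
    have hS : S.ShortExact := InjectivePresentation.shortExact_shortComplex _
    have : Injective S.X₂ := (Classical.arbitrary (InjectivePresentation F)).injective
    let := HasDerivedCategory.standard (ProEtS.AbP X)
    let := HasDerivedCategory.standard (EtCoh.Ab X)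
    obtain ⟨δ, w₁, w₂, w₃, -, -, e₃⟩ :=
      TriCat.exists_rightDerived_ses (ProEtS.epsPush X) (shortExact_epsPull hS) (q + 1)
    exact e₃.isZero_X₂ ((ih S.X₃).eq_of_src _ _)
      ((isZero_repsPush_of_cechClass (cechClass_epsPull_injective S.X₂) (q + 1)).eq_of_tgt _ _)

end Groth.Agent.ProEtLib
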