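import Groth.Agent.ProEtLib.Sheafify
import Mathlib.CategoryTheory.Functor.KanExtension.Adjunction

/-! left Kan extensions of pro-etale sheaves along base change send disjoint unions to products -/

universe u

open CategoryTheory CategoryTheory.Limits AlgebraicGeometry Opposite MorphismProperty

namespace Groth.Agent.ProEtLib

set_option backward.isDefEq.respectTransparency.types false

variable {X Y : Scheme.{u}}

instance preservesFiniteLimits_bcP (f : X ⟶ Y) : PreservesFiniteLimits (ProEtS.bcP f) := by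
  have : PreservesFiniteLimits (Scheme.ProEt.forget Y ⋙ Over.pullback f) := comp_preservesFiniteLimits _ _
  have : PreservesFiniteLimits (ProEtS.bcP f ⋙ Scheme.ProEt.forget X) :=
    preservesFiniteLimits_of_natIso
      (NatIso.ofComponents (fun _ => Iso.refl _) (by cat_disch) :
        Scheme.ProEt.forget Y ⋙ Over.pullback f ≅ ProEtS.bcP f ⋙ Scheme.ProEt.forget X)
  exact ⟨fun J _ _ => preservesLimitsOfShape_of_reflects_of_preserves _ (Scheme.ProEt.forget X)⟩

/-- gluing along disjoint open immersions -/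
theorem existsUnique_glue (G : Y.ProEtᵒᵖ ⥤ Type*) (hG : Presieve.IsSheaf (Scheme.ProEt.topology Y) G)
    (hG0 : ∀ Z : Y.ProEt, IsEmpty Z.left → Subsingleton (G.obj (op Z)))
    (P : Y.ProEt) {ι : Type*} (V : ι → Y.ProEt) (j : ∀ i, V i ⟶ P)
    [∀ i, IsOpenImmersion (j i).left]
    (hd : Pairwise fun i k => Disjoint (Set.range (j i).left.base) (Set.range (j k).left.base))
    (hc : ∀ x, ∃ i, x ∈ Set.range (j i).left.base) (t : ∀ i, G.obj (op (V i))) :
    ∃! s, ∀ i, G.map (j i).op s = t i := by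
  refine (Presieve.isSheafFor_arrows_iff _ _).1 ?_ t fun i k Z a b hab => ?_
  · rw [Presieve.isSheafFor_iff_generate]
    exact hG _ (mem_topology_of_etale V j (fun i => inferInstance) hc fun i => Sieve.le_generate _ _ _ ⟨i⟩)
  · by_cases hik : i = k
    · subst hik
      have h2 : a = b := MorphismProperty.Over.Hom.ext
        ((cancel_mono (j i).left).1 (congrArg (fun f => f.left) hab))
      rw [h2]
    · have : IsEmpty Z.left := ⟨fun z => Set.disjoint_left.1 (hd hik) ⟨a.left.base z, rfl⟩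
        ⟨b.left.base z, (congrArg (fun f : Z.left ⟶ P.left => f.base z) (congrArg (fun f => f.left) hab)).symm⟩⟩
      exact (hG0 Z this).elim _ _

theorem exists_sigma {n : ℕ} (V : Fin n → Y.ProEt) :
    ∃ (P : Y.ProEt) (j : ∀ i, V i ⟶ P), (∀ i, IsOpenImmersion (j i).left) ∧
      (Pairwise fun i k => Disjoint (Set.range (j i).left.base) (Set.range (j k).left.base)) ∧
      ∀ x, ∃ i, x ∈ Set.range (j i).left.base := by
  let c : ULift.{u} (Fin n) → Scheme.{u} := fun k => (V k.down).left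
  let q : ∀ k, c k ⟶ Y := fun k => (V k.down).hom
  have : WeaklyEtale (Sigma.desc q) := IsZariskiLocalAtSource.sigmaDesc fun k => (V k.down).prop
  refine ⟨Scheme.ProEt.mk (Sigma.desc q),
    fun i => MorphismProperty.Over.homMk (Sigma.ι c ⟨i⟩) (Sigma.ι_desc (f := c) q ⟨i⟩),
    fun i => (inferInstance : IsOpenImmersion (Sigma.ι c ⟨i⟩)), fun i k hik => ?_, fun x => ?_⟩
  · have := disjoint_opensRange_sigmaι c ⟨i⟩ ⟨k⟩ fun h => hik (congrArg ULift.down h)
    rw [← TopologicalSpace.Opens.coe_disjoint] at this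
    exact this
  · obtain ⟨⟨⟨i⟩, y⟩, hy⟩ := (sigmaMk c).surjective x
    exact ⟨i, y, by rw [← hy]; exact (sigmaMk_mk c ⟨i⟩ y).symm⟩

section Germ

variable (f : X ⟶ Y) (F : Y.ProEtᵒᵖ ⥤ Type (u + 1))

/-- the left Kan extension of a presheaf along base change -/
noncomputable abbrev lanBc : X.ProEtᵒᵖ ⥤ Type (u + 1) := (ProEtS.bcP f).op.lan.obj F

/-- the class of a section along a map into a base change -/
noncomputable def germ {W : X.ProEt} {V : Y.ProEt} (b : W ⟶ (ProEtS.bcP f).obj V)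
    (x : F.obj (op V)) : (lanBc f F).obj (op W) :=
  (lanBc f F).map b.op (((ProEtS.bcP f).op.leftKanExtensionUnit F).app (op V) x)

theorem map_germ {W W' : X.ProEt} (h : W' ⟶ W) {V : Y.ProEt} (b : W ⟶ (ProEtS.bcP f).obj V)
    (x : F.obj (op V)) : (lanBc f F).map h.op (germ f F b x) = germ f F (h ≫ b) x := by
  rw [germ, germ, ← ConcreteCategory.comp_apply, ← Functor.map_comp, ← op_comp]

theorem germ_map {W : X.ProEt} {V V' : Y.ProEt} (c : V' ⟶ V) (b : W ⟶ (ProEtS.bcP f).obj V')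
    (x : F.obj (op V)) : germ f F b (F.map c.op x) = germ f F (b ≫ (ProEtS.bcP f).map c) x := by
  rw [germ, germ, NatTrans.naturality_apply, op_comp, Functor.map_comp]
  rfl

theorem germ_jointly_surjective {W : X.ProEt} (s : (lanBc f F).obj (op W)) :
    ∃ (V : Y.ProEt) (b : W ⟶ (ProEtS.bcP f).obj V) (x : F.obj (op V)), germ f F b x = s := by
  obtain ⟨g, x, hx⟩ := Types.jointly_surjective _
    ((ProEtS.bcP f).op.isPointwiseLeftKanExtensionLeftKanExtensionUnit F (op W)) s
  exact ⟨g.left.unop, g.hom.unop, x, hx⟩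

theorem germ_eq_iff {W : X.ProEt} {V : Y.ProEt} (b : W ⟶ (ProEtS.bcP f).obj V)
    (x y : F.obj (op V)) : germ f F b x = germ f F b y ↔
      ∃ (V' : Y.ProEt) (b' : W ⟶ (ProEtS.bcP f).obj V') (c : V' ⟶ V),
        b' ≫ (ProEtS.bcP f).map c = b ∧ F.map c.op x = F.map c.op y := by
  have : RepresentablyFlat (ProEtS.bcP f) := flat_of_preservesFiniteLimits _
  refine ⟨fun h => ?_, fun ⟨V', b', c, hc, hxy⟩ => ?_⟩
  · let g : CostructuredArrow (ProEtS.bcP f).op (op W) := CostructuredArrow.mk b.op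
    obtain ⟨k, p, q, hpq⟩ := (Types.FilteredColimit.isColimit_eq_iff _
      ((ProEtS.bcP f).op.isPointwiseLeftKanExtensionLeftKanExtensionUnit F (op W))
      (i := g) (j := g) (xi := x) (xj := y)).1 h
    refine ⟨(IsFiltered.coeq p q).left.unop, (IsFiltered.coeq p q).hom.unop,
      (p ≫ IsFiltered.coeqHom p q).left.unop, ?_, ?_⟩
    · exact congrArg Quiver.Hom.unop (CostructuredArrow.w (p ≫ IsFiltered.coeqHom p q))
    · have e1 : ∀ (r : g ⟶ k) (z : F.obj (op V)),
          F.map (IsFiltered.coeqHom p q).left (F.map r.left z) =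
            F.map (r ≫ IsFiltered.coeqHom p q).left z := fun r z =>
        (congrArg (fun e => e z) (F.map_comp r.left (IsFiltered.coeqHom p q).left)).symm
      have h2 := (e1 p x).symm.trans
        ((congrArg (fun z => F.map (IsFiltered.coeqHom p q).left z) hpq).trans (e1 q y))
      rw [← IsFiltered.coeq_condition] at h2
      exact h2
  · rw [← hc, ← germ_map, ← germ_map, hxy]

theorem exists_common {W : X.ProEt} {V₁ V₂ : Y.ProEt} (b₁ : W ⟶ (ProEtS.bcP f).obj V₁)
    (b₂ : W ⟶ (ProEtS.bcP f).obj V₂) :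
    ∃ (V : Y.ProEt) (b : W ⟶ (ProEtS.bcP f).obj V) (c₁ : V ⟶ V₁) (c₂ : V ⟶ V₂),
      b ≫ (ProEtS.bcP f).map c₁ = b₁ ∧ b ≫ (ProEtS.bcP f).map c₂ = b₂ := by
  have : RepresentablyFlat (ProEtS.bcP f) := flat_of_preservesFiniteLimits _
  let g₁ : CostructuredArrow (ProEtS.bcP f).op (op W) := CostructuredArrow.mk b₁.op
  let g₂ : CostructuredArrow (ProEtS.bcP f).op (op W) := CostructuredArrow.mk b₂.op
  exact ⟨(IsFiltered.max g₁ g₂).left.unop, (IsFiltered.max g₁ g₂).hom.unop,
    (IsFiltered.leftToMax g₁ g₂).left.unop, (IsFiltered.rightToMax g₁ g₂).left.unop,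
    congrArg Quiver.Hom.unop (CostructuredArrow.w (IsFiltered.leftToMax g₁ g₂)),
    congrArg Quiver.Hom.unop (CostructuredArrow.w (IsFiltered.rightToMax g₁ g₂))⟩

end Germ

theorem existsUnique_lan_of_disjoint (f : X ⟶ Y)
    (F : Sheaf (Scheme.ProEt.topology Y) (Type (u + 1))) (W : X.ProEt) {n : ℕ}
    (O : Fin n → W.left.Opens) (hd : Pairwise fun i j => Disjoint (O i : Set W.left) (O j))
    (hc : ∀ x, ∃ i, x ∈ O i) (t : ∀ i, (lanBc f F.obj).obj (op (opObj W (O i)))) :
    ∃! s, ∀ i, (lanBc f F.obj).map (opHom W (O i)).op s = t i := by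
  obtain ⟨hcol⟩ := isColimit_disjoint W O hd hc
  have hF := (isSheaf_iff_isSheaf_of_type _ _).1 F.2
  have hY : ∀ (V : Fin n → Y.ProEt) (a : ∀ i, opObj W (O i) ⟶ (ProEtS.bcP f).obj (V i)),
      ∃ (P : Y.ProEt) (j : ∀ i, V i ⟶ P) (b : W ⟶ (ProEtS.bcP f).obj P),
        (∀ i, opHom W (O i) ≫ b = a i ≫ (ProEtS.bcP f).map (j i)) ∧
        (∀ t : ∀ i, F.obj.obj (op (V i)), ∃! s, ∀ i, F.obj.map (j i).op s = t i) ∧
        ∀ (V₀ : Y.ProEt) (h : ∀ i, V i ⟶ V₀), ∃ m : P ⟶ V₀, ∀ i, j i ≫ m = h i := fun V a => by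
    obtain ⟨P, j, hj, hdj, hcj⟩ := exists_sigma V
    refine ⟨P, j, Cofan.IsColimit.desc hcol fun i => a i ≫ (ProEtS.bcP f).map (j i),
      fun i => Cofan.IsColimit.fac hcol _ i, fun t => existsUnique_glue F.obj hF
        (fun Z h => subsingleton_of_isEmpty F Z) P V j hdj hcj t, fun V₀ h => ?_⟩
    exact (existsUnique_glue (yoneda.obj V₀)
      (GrothendieckTopology.Subcanonical.isSheaf_of_isRepresentable _)
      (fun Z hZ => ⟨fun u v => MorphismProperty.Over.Hom.ext (isInitialOfIsEmpty.hom_ext _ _)⟩)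
      P V j hdj hcj h).exists
  refine existsUnique_of_exists_of_unique ?_ fun s s' hs hs' => ?_
  · choose V a x hx using fun i => germ_jointly_surjective f F.obj (t i)
    obtain ⟨P, j, b, hb, hglue, -⟩ := hY V a
    obtain ⟨z, hz, -⟩ := hglue x
    refine ⟨germ f F.obj b z, fun i => ?_⟩
    rw [map_germ, hb i, ← germ_map, hz i, hx i]
  · obtain ⟨V₁, b₁, x₁, rfl⟩ := germ_jointly_surjective f F.obj s
    obtain ⟨V₂, b₂, x₂, rfl⟩ := germ_jointly_surjective f F.obj s'
    obtain ⟨V₀, b, c₁, c₂, rfl, rfl⟩ := exists_common f b₁ b₂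
    rw [← germ_map, ← germ_map]
    have h : ∀ i, ∃ (V' : Y.ProEt) (a : opObj W (O i) ⟶ (ProEtS.bcP f).obj V') (c : V' ⟶ V₀),
        a ≫ (ProEtS.bcP f).map c = opHom W (O i) ≫ b ∧
          F.obj.map c.op (F.obj.map c₁.op x₁) = F.obj.map c.op (F.obj.map c₂.op x₂) := fun i => by
      refine (germ_eq_iff f F.obj _ _ _).1 ?_
      rw [← map_germ, ← map_germ, germ_map, germ_map, hs i, hs' i]
    choose V a c hac hxy using h
    obtain ⟨P, j, b', hb', hglue, hdesc⟩ := hY V a
    obtain ⟨m, hm⟩ := hdesc V₀ c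
    have hbm : b' ≫ (ProEtS.bcP f).map m = b := by
      refine Cofan.IsColimit.hom_ext hcol _ _ fun i => ?_
      change opHom W (O i) ≫ b' ≫ _ = opHom W (O i) ≫ b
      rw [← Category.assoc, hb', Category.assoc, ← Functor.map_comp, hm, hac]
    refine (germ_eq_iff f F.obj _ _ _).2 ⟨P, b', m, hbm, ?_⟩
    refine (hglue fun i => F.obj.map (c i).op (F.obj.map c₁.op x₁)).unique (fun i => ?_) fun i => ?_
    · rw [← ConcreteCategory.comp_apply, ← Functor.map_comp, ← op_comp, hm i]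
    · rw [hxy i, ← ConcreteCategory.comp_apply, ← Functor.map_comp, ← op_comp, hm i]

end Groth.Agent.ProEtLib
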