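import Groth.Agent.ProEtLib.EpsVanish
import Groth.Agent.SitePullUnit.ExtClass

/-! comparison of etale and pro-etale cohomology -/

universe u

open CategoryTheory CategoryTheory.Limits AlgebraicGeometry Opposite CategoryTheory.Abelian

namespace Groth.Agent.ProEtLib

set_option backward.isDefEq.respectTransparency.types false

variable {X : Scheme.{u}} [ProEtS.EpsCont X]

theorem injective_push_epsPull (I : EtCoh.Ab X) [Injective I] :
    Injective ((ProEtS.epsPush X).obj ((ProEtS.epsPull X).obj I)) := by
  have := isIso_unit_eps (X := X) I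
  exact Injective.of_iso (asIso ((ProEtS.epsAdj X).unit.app I)) ‹Injective I›

theorem ext_epsPull_eq_zero (I : EtCoh.Ab X) [Injective I] (Z : EtCoh.Ab X) (n : ℕ)
    (x : Ext ((ProEtS.epsPull X).obj Z) ((ProEtS.epsPull X).obj I) (n + 1)) : x = 0 := by
  have : PreservesFiniteLimits (ProEtS.epsPush X) :=
    have := (ProEtS.epsAdj X).rightAdjoint_preservesLimits
    inferInstance
  exact SitePullUnit.ext_eq_zero_of_push (ProEtS.epsAdj X) n _ (injective_push_epsPull I)
    (fun q => isZero_repsPush_epsPull q I) Z x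

theorem preservesFiniteLimits_epsPull : PreservesFiniteLimits (ProEtS.epsPull X) :=
  (((ProEtS.epsPull X).preservesFiniteLimits_tfae).out 0 3).1 (show ∀ S : ShortComplex (EtCoh.Ab X), S.ShortExact →
      (S.map (ProEtS.epsPull X)).Exact ∧ Mono ((ProEtS.epsPull X).map S.f) from fun _ hS =>
    ⟨(shortExact_epsPull hS).exact, (shortExact_epsPull hS).mono_f⟩)

theorem mapExt_epsPull_bijective (Z F : EtCoh.Ab X) (n : ℕ) :
    haveI := preservesFiniteLimits_epsPull (X := X)
    Function.Bijective (fun α : Ext Z F n => α.mapExactFunctor (ProEtS.epsPull X)) := by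
  have := preservesFiniteLimits_epsPull (X := X)
  have := isIso_unit_eps (X := X)
  have : IsIso (ProEtS.epsAdj X).unit := NatIso.isIso_of_isIso_app _
  have hff := (ProEtS.epsAdj X).fullyFaithfulLOfIsIsoUnit
  have := hff.full
  have := hff.faithful
  exact SitePullUnit.mapExactFunctor_bijective
    (fun I _ Z n x => ext_epsPull_eq_zero I Z n x) Z F n

variable (X) in
/-- the pullback of a constant sheaf is constant -/
noncomputable def constIso :
    constantSheaf X.smallEtaleTopology AddCommGrpCat.{u + 1} ⋙ ProEtS.epsPull X ≅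
      constantSheaf (Scheme.ProEt.topology X) AddCommGrpCat.{u + 1} :=
  let T : X.Etale := Scheme.Etale.mk (𝟙 X)
  have hT : IsTerminal T := IsTerminal.ofUniqueHom
    (fun W => MorphismProperty.Over.homMk W.hom (Category.comp_id _))
    fun W m => MorphismProperty.Over.Hom.ext ((Category.comp_id m.left).symm.trans (MorphismProperty.Over.w m))
  have hT' : IsTerminal ((ProEtS.eps X).obj T) := IsTerminal.ofUniqueHom
    (fun W => MorphismProperty.Over.homMk W.hom (Category.comp_id _))
    fun W m => MorphismProperty.Over.Hom.ext ((Category.comp_id m.left).symm.trans (MorphismProperty.Over.w m))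
  Adjunction.leftAdjointUniq
    ((constantSheafAdj X.smallEtaleTopology AddCommGrpCat.{u + 1} hT).comp (ProEtS.epsAdj X))
    (constantSheafAdj (Scheme.ProEt.topology X) AddCommGrpCat.{u + 1} hT')

/-- transporting Ext along an isomorphism of the source -/
noncomputable def extIsoLeft {C : Type*} [Category C] [Abelian C] [HasExt.{u + 1} C] {A A' : C} (e : A ≅ A')
    (B : C) (n : ℕ) : Ext A B n ≃+ Ext A' B n where
  toFun x := (Ext.mk₀ e.inv).comp x (zero_add n)
  invFun x := (Ext.mk₀ e.hom).comp x (zero_add n)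
  left_inv x := by simp [← Ext.comp_assoc_of_second_deg_zero]
  right_inv x := by simp [← Ext.comp_assoc_of_second_deg_zero]
  map_add' x y := Ext.comp_add _ _ _ _

theorem subsingleton_HP_epsPull (I : EtCoh.Ab X) [Injective I] (p : ℕ) :
    Subsingleton (ProEtS.HP X ((ProEtS.epsPull X).obj I) (p + 1)) := by
  let e := extIsoLeft ((constIso X).app (AddCommGrpCat.of (ULift.{u + 1} ℤ))) ((ProEtS.epsPull X).obj I) (p + 1)
  refine ⟨fun a b => ?_⟩
  apply e.symm.injective
  rw [ext_epsPull_eq_zero I _ p (e.symm a), ext_epsPull_eq_zero I _ p (e.symm b)]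

theorem nonempty_H_equiv_HP (F : EtCoh.Ab X) (i : ℕ) :
    Nonempty (EtCoh.H X F i ≃+ ProEtS.HP X ((ProEtS.epsPull X).obj F) i) := by
  have := preservesFiniteLimits_epsPull (X := X)
  let m : (EtCoh.H X F i) →+ Abelian.Ext ((ProEtS.epsPull X).obj
      ((constantSheaf X.smallEtaleTopology AddCommGrpCat.{u + 1}).obj (AddCommGrpCat.of (ULift.{u + 1} ℤ))))
      ((ProEtS.epsPull X).obj F) i :=
    AddMonoidHom.mk' (fun α => Abelian.Ext.mapExactFunctor (ProEtS.epsPull X) α) fun a b => by simp only [Ext.mapExactFunctor_add]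
  exact ⟨(AddEquiv.ofBijective m (mapExt_epsPull_bijective _ F i)).trans
    (extIsoLeft ((constIso X).app (AddCommGrpCat.of (ULift.{u + 1} ℤ))) _ i)⟩

end Groth.Agent.ProEtLib
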