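import Groth.Agent.ProEtLib.WC
import Groth.Agent.WStrictLib.Cover
import Groth.Agent.S0736

/-! covers by weakly contractible objects -/

universe u

open CategoryTheory CategoryTheory.Limits AlgebraicGeometry Opposite MorphismProperty

namespace Groth.Agent.ProEtLib

set_option backward.isDefEq.respectTransparency.types false

variable {X : Scheme.{u}}

theorem wContractible_of_ringEquiv {A A' : Type u} [CommRing A] [CommRing A'] (e : A ≃+* A')
    (h : EtPBC.IsWContractible A) : EtPBC.IsWContractible A' := by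
  intro B _ _ hff hwe
  let := e.toRingHom.toAlgebra
  let := ((algebraMap A' B).comp e.toRingHom).toAlgebra
  have : IsScalarTower A A' B := IsScalarTower.of_algebraMap_eq fun _ => rfl
  have : Algebra.Etale A A' :=
    RingHom.etale_algebraMap.1 (RingHom.Etale.of_bijective e.bijective)
  have : Algebra.WeaklyEtale A B := Algebra.WeaklyEtale.trans A A' B
  have : Module.FaithfullyFlat A A' :=
    RingHom.faithfullyFlat_algebraMap_iff.1 (RingHom.FaithfullyFlat.of_bijective e.bijective)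
  have : Module.FaithfullyFlat A B := Module.FaithfullyFlat.trans A A' B
  obtain ⟨r⟩ := h B inferInstance inferInstance
  refine ⟨{ (e.toRingHom.comp r.toRingHom) with commutes' := fun a => ?_ }⟩
  obtain ⟨a, rfl⟩ := e.surjective a
  exact congrArg e (r.commutes a)

theorem exists_wc_affine_cover (U : X.ProEt) [IsAffine U.left] :
    ∃ (V : X.ProEt) (g : V ⟶ U), Sieve.generate (Presieve.singleton g) ∈ Scheme.ProEt.topology X U ∧
      IsAffine V.left ∧ EtPBC.IsWContractible Γ(V.left, ⊤) := by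
  obtain ⟨G, _, _, hff, hie, hwc⟩ := WStrictLib.exists_wContractible Γ(U.left, ⊤)
  have : Algebra.WeaklyEtale Γ(U.left, ⊤) G := S0736.result _ _ hie
  have := weaklyEtale_spec Γ(U.left, ⊤) G
  have : Surjective (Spec.map (CommRingCat.ofHom (algebraMap Γ(U.left, ⊤) G))) :=
    ⟨PrimeSpectrum.comap_surjective_of_faithfullyFlat⟩
  have : WeaklyEtale U.hom := U.prop
  let p : Spec (CommRingCat.of G) ⟶ U.left :=
    Spec.map (CommRingCat.ofHom (algebraMap Γ(U.left, ⊤) G)) ≫ U.left.isoSpec.inv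
  let V : X.ProEt := Scheme.ProEt.mk (p ≫ U.hom)
  let g : V ⟶ U := MorphismProperty.Over.homMk p
  refine ⟨V, g, @singleton_mem_topology _ _ _ g (inferInstanceAs (QuasiCompact p))
    (inferInstanceAs (Surjective p)), inferInstanceAs (IsAffine (Spec (CommRingCat.of G))),
    wContractible_of_ringEquiv (Scheme.ΓSpecIso (CommRingCat.of G)).symm.commRingCatIsoToRingEquiv hwc⟩

/-- transitivity along a family -/
theorem mem_topology_of_family {U : X.ProEt} (R : Sieve U) {ι : Type*} (V : ι → X.ProEt)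
    (g : ∀ i, V i ⟶ U)
    (hg : Sieve.generate (Presieve.ofArrows V g) ∈ Scheme.ProEt.topology X U)
    (h : ∀ i, R.pullback (g i) ∈ Scheme.ProEt.topology X (V i)) : R ∈ Scheme.ProEt.topology X U := by
  refine (Scheme.ProEt.topology X).transitive hg R ?_
  rintro Y f ⟨Z, a, b, ⟨i⟩, rfl⟩
  rw [Sieve.pullback_comp]
  exact (Scheme.ProEt.topology X).pullback_stable a (h i)

theorem exists_wc_cover_family (U : X.ProEt) :
    ∃ (ι : Type u) (V : ι → X.ProEt) (g : ∀ i, V i ⟶ U),
      Sieve.generate (Presieve.ofArrows V g) ∈ Scheme.ProEt.topology X U ∧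
        ∀ i, IsAffine (V i).left ∧ EtPBC.IsWContractible Γ((V i).left, ⊤) := by
  have h : ∀ W : U.left.affineOpens, ∃ (V : X.ProEt) (g : V ⟶ opObj U W.1),
      Sieve.generate (Presieve.singleton g) ∈ Scheme.ProEt.topology X (opObj U W.1) ∧
        IsAffine V.left ∧ EtPBC.IsWContractible Γ(V.left, ⊤) := fun W =>
    @exists_wc_affine_cover _ (opObj U W.1) W.2
  choose V g hg ha hw using h
  refine ⟨U.left.affineOpens, V, fun W => g W ≫ opHom U W.1, ?_, fun W => ⟨ha W, hw W⟩⟩
  refine mem_topology_of_family _ _ _ (opens_mem_topology U (fun W : U.left.affineOpens => W.1)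
    fun x => ?_) fun W => ?_
  · obtain ⟨W, hW, hx, -⟩ := exists_isAffineOpen_mem_and_subset (show x ∈ (⊤ : U.left.Opens) from trivial)
    exact ⟨⟨W, hW⟩, hx⟩
  · refine GrothendieckTopology.superset_covering _ ?_ (hg W)
    rintro Y f ⟨Z, a, _, ⟨⟩, rfl⟩
    exact ⟨_, a, _, ⟨W⟩, by simp⟩

theorem isWC_of_disjoint_cover {U : X.ProEt} {ι : Type u} (W : ι → U.left.Opens)
    (hd : Pairwise fun i j => Disjoint (W i : Set U.left) (W j)) (hc : ∀ x, ∃ i, x ∈ W i)
    (h : ∀ i, ProEtS.IsWC (opObj U (W i))) : ProEtS.IsWC U :=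
  fun _ _ φ hφ s => exists_lift_of_disjoint φ U W hd hc s fun i => h i _ _ φ hφ _

theorem isWC_of_iso {U U' : X.ProEt} (e : U ≅ U') (h : ProEtS.IsWC U) : ProEtS.IsWC U' := by
  intro F G φ hφ s
  obtain ⟨t, ht⟩ := h F G φ hφ (G.obj.map e.hom.op s)
  refine ⟨F.obj.map e.inv.op t, ?_⟩
  rw [NatTrans.naturality_apply φ.hom, ht, ← ConcreteCategory.comp_apply, ← Functor.map_comp,
    ← op_comp, e.inv_hom_id, op_id, CategoryTheory.Functor.map_id]
  rfl

theorem exists_wc_cover (U : X.ProEt) : ∃ (V : X.ProEt) (g : V ⟶ U),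
    Sieve.generate (Presieve.singleton g) ∈ Scheme.ProEt.topology X U ∧ ProEtS.IsWC V := by
  obtain ⟨ι, V, g, hg, h⟩ := exists_wc_cover_family U
  let c : ι → Scheme.{u} := fun i => (V i).left
  let q : ∀ i, c i ⟶ U.left := fun i => (g i).left
  have : WeaklyEtale (Sigma.desc q) := IsZariskiLocalAtSource.sigmaDesc fun i => weaklyEtale_left (g i)
  have : WeaklyEtale U.hom := U.prop
  let P : X.ProEt := Scheme.ProEt.mk (Sigma.desc q ≫ U.hom)
  let p : P ⟶ U := MorphismProperty.Over.homMk (Sigma.desc q)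
  let j : ∀ i, V i ⟶ P := fun i => MorphismProperty.Over.homMk (Sigma.ι c i) (by
    change Sigma.ι c i ≫ Sigma.desc q ≫ U.hom = _
    rw [Sigma.ι_desc_assoc]
    exact MorphismProperty.Over.w (g i))
  refine ⟨P, p, GrothendieckTopology.superset_covering _ ?_ hg, ?_⟩
  · rintro Y f ⟨Z, a, _, ⟨i⟩, rfl⟩
    have : j i ≫ p = g i := MorphismProperty.Over.Hom.ext (Sigma.ι_desc (f := c) q i)
    exact ⟨_, a ≫ j i, p, ⟨⟩, by rw [Category.assoc, this]⟩
  · refine isWC_of_disjoint_cover (U := P) (fun i => (Sigma.ι c i).opensRange) (fun i k hik => ?_)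
      (fun x => ?_) fun i => ?_
    · have := disjoint_opensRange_sigmaι c i k hik
      rw [← TopologicalSpace.Opens.coe_disjoint] at this
      exact this
    · obtain ⟨⟨i, y⟩, hy⟩ := (sigmaMk c).surjective x
      exact ⟨i, y, by rw [← sigmaMk_mk]; exact hy⟩
    · have := (h i).1
      have hwc := isWC_of_criterion (criterion_of_wContractible (h i).2)
      refine isWC_of_iso (MorphismProperty.Over.isoMk (Scheme.Hom.isoOpensRange (Sigma.ι c i)) ?_) hwc
      change _ ≫ (Scheme.Hom.opensRange (Sigma.ι c i)).ι ≫ P.hom = _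
      rw [← Category.assoc, Scheme.Hom.isoOpensRange_hom_ι]
      exact MorphismProperty.Over.w (j i)

theorem exists_affine_wc_cover (U : X.ProEt) [CompactSpace U.left] : ∃ (V : X.ProEt) (g : V ⟶ U),
    Sieve.generate (Presieve.singleton g) ∈ Scheme.ProEt.topology X U ∧ IsAffine V.left ∧
      ProEtS.IsWC V := by
  have := U.left.affineCover
  obtain ⟨t, ht⟩ := isCompact_univ.elim_finite_subcover
    (fun W : U.left.affineOpens => (W.1 : Set U.left)) (fun W => W.1.2) fun x _ => by
      obtain ⟨W, hW, hx, -⟩ :=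
        exists_isAffineOpen_mem_and_subset (show x ∈ (⊤ : U.left.Opens) from trivial)
      exact Set.mem_iUnion.2 ⟨⟨W, hW⟩, hx⟩
  let c : t → Scheme.{u} := fun W => W.1.1.toScheme
  have : ∀ W, IsAffine (c W) := fun W => W.1.2
  let q : ∀ W, c W ⟶ U.left := fun W => W.1.1.ι
  have : Etale (Sigma.desc q) := IsZariskiLocalAtSource.sigmaDesc fun W =>
    inferInstanceAs (Etale W.1.1.ι)
  have : WeaklyEtale U.hom := U.prop
  let P : X.ProEt := Scheme.ProEt.mk (Sigma.desc q ≫ U.hom)
  let p : P ⟶ U := MorphismProperty.Over.homMk (Sigma.desc q)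
  have : IsAffine P.left := inferInstanceAs (IsAffine (∐ c))
  obtain ⟨V, g, hg, ha, hw⟩ := exists_wc_affine_cover P
  refine ⟨V, g ≫ p, ?_, ha, isWC_of_criterion (criterion_of_wContractible hw)⟩
  refine mem_topology_of_family _ (fun _ : Unit => P) (fun _ => p)
    (mem_topology_of_etale (fun _ : Unit => P) (fun _ => p) (fun _ => inferInstanceAs (Etale (Sigma.desc q)))
      (fun x => ?_) fun i => Sieve.le_generate _ _ _ ⟨i⟩) fun _ => ?_
  · obtain ⟨W, hW, hx⟩ := Set.mem_iUnion₂.1 (ht (Set.mem_univ x))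
    refine ⟨(), (Sigma.ι c ⟨W, hW⟩).base ⟨x, hx⟩, ?_⟩
    change (Sigma.desc q).base _ = x
    rw [← Scheme.Hom.comp_apply, Sigma.ι_desc]
    rfl
  · refine GrothendieckTopology.superset_covering _ ?_ hg
    rintro Y f ⟨Z, a, _, ⟨⟩, rfl⟩
    exact ⟨_, a, _, ⟨⟩, by simp⟩

end Groth.Agent.ProEtLib
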