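import Groth.Prelude.Def_ProEtS
import Groth.Agent.EtFound.Basic

/-! small pro-etale site: covering criterion and continuity of the basic functors -/

universe u

open CategoryTheory CategoryTheory.Limits AlgebraicGeometry Opposite MorphismProperty

namespace Groth.Agent.ProEtLib

set_option backward.isDefEq.respectTransparency.types false

variable {X Y : Scheme.{u}}

theorem weaklyEtale_left {U V : X.ProEt} (g : V ⟶ U) : WeaklyEtale g.left := by
  have hV : WeaklyEtale (g.left ≫ U.hom) := by rw [MorphismProperty.Over.w g]; exact V.prop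
  have hU : WeaklyEtale U.hom := U.prop
  exact MorphismProperty.of_postcomp (W := @WeaklyEtale) (W' := @WeaklyEtale) g.left U.hom hU hV

theorem mem_topology_iff {U : X.ProEt} (R : Sieve U) :
    R ∈ Scheme.ProEt.topology X U ↔
      ∃ T ∈ Scheme.ProEt.precoverage X U, T ≤ R.arrows := by
  have : (Scheme.ProEt.precoverage X).IsStableUnderBaseChange := by
    unfold Scheme.ProEt.precoverage; infer_instance
  have : (Scheme.ProEt.precoverage X).IsStableUnderComposition := by
    unfold Scheme.ProEt.precoverage; infer_instance
  have : (Scheme.ProEt.precoverage X).HasIsos := by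
    unfold Scheme.ProEt.precoverage; infer_instance
  have : (Scheme.ProEt.precoverage X).HasPullbacks := by
    unfold Scheme.ProEt.precoverage; infer_instance
  exact Precoverage.mem_toGrothendieck_iff_of_isStableUnderComposition

theorem ofArrows_mem_precoverage_iff {U : X.ProEt} {ι : Type*} (V : ι → X.ProEt)
    (g : ∀ i, V i ⟶ U) :
    Presieve.ofArrows V g ∈ Scheme.ProEt.precoverage X U ↔
      Presieve.ofArrows (fun i => (V i).left) (fun i => (g i).left) ∈
        Scheme.proetalePrecoverage U.left := by
  rw [Scheme.ProEt.precoverage, Precoverage.mem_comap_iff, Presieve.map_ofArrows]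
  rfl

theorem mem_proetalePrecoverage_iff {ι : Type*} {S : Scheme.{u}} (W : ι → Scheme.{u})
    (h : ∀ i, W i ⟶ S) :
    Presieve.ofArrows W h ∈ Scheme.proetalePrecoverage S ↔
      QuasiCompactCover (PreZeroHypercover.mk ι W h) ∧
        (∀ x, ∃ i, x ∈ Set.range (h i).base) ∧ ∀ i, WeaklyEtale (h i) := by
  refine and_congr ?_ ?_
  · exact Scheme.presieve₀_mem_qcPrecoverage_iff (E := PreZeroHypercover.mk ι W h)
  · exact Scheme.ofArrows_mem_precoverage_iff _

/-- jointly surjective families of etale maps cover in the small pro-etale site -/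
theorem mem_topology_of_etale {U : X.ProEt} {R : Sieve U} {ι : Type*} (V : ι → X.ProEt)
    (g : ∀ i, V i ⟶ U) (hg : ∀ i, Etale (g i).left) (hs : ∀ x, ∃ i, x ∈ Set.range (g i).left.base)
    (hR : ∀ i, R (g i)) : R ∈ Scheme.ProEt.topology X U := by
  rw [mem_topology_iff]
  refine ⟨Presieve.ofArrows V g, ?_, ?_⟩
  · rw [ofArrows_mem_precoverage_iff]
    apply Scheme.etalePrecoverage_le_proetalePrecoverage
    exact (Scheme.ofArrows_mem_precoverage_iff _).2 ⟨hs, hg⟩
  · rintro _ _ ⟨i⟩
    exact hR i

/-- continuity of `ε` -/
theorem epsCont (X : Scheme.{u}) : ProEtS.EpsCont X := by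
  have : PreservesFiniteLimits (ProEtS.eps X) := by
    have : PreservesFiniteLimits (ProEtS.eps X ⋙ Scheme.ProEt.forget X) :=
      inferInstanceAs (PreservesFiniteLimits (Scheme.Etale.forget X))
    exact ⟨fun J _ _ => preservesLimitsOfShape_of_reflects_of_preserves _ (Scheme.ProEt.forget X)⟩
  have : RepresentablyFlat (ProEtS.eps X) := flat_of_preservesFiniteLimits _
  rw [ProEtS.EpsCont, Functor.isContinuous_iff_coverPreserving]
  constructor
  intro U R hR
  rw [EtFound.mem_topology_iff] at hR
  choose V g v hg hv using hR
  refine mem_topology_of_etale (fun x => (ProEtS.eps X).obj (V x))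
    (fun x => (ProEtS.eps X).map (g x)) (fun x => EtFound.etale_left (g x))
    (fun x => ⟨x, v x, hv x⟩) fun x => ?_
  exact Sieve.image_mem_functorPushforward _ _ (hg x)

instance preservesPullbacks_bcP (f : X ⟶ Y) :
    PreservesLimitsOfShape WalkingCospan (ProEtS.bcP f) := by
  have : PreservesFiniteLimits (Scheme.ProEt.forget Y ⋙ Over.pullback f) := comp_preservesFiniteLimits _ _
  have : PreservesLimitsOfShape WalkingCospan (ProEtS.bcP f ⋙ Scheme.ProEt.forget X) :=
    preservesLimitsOfShape_of_natIso
      (NatIso.ofComponents (fun _ => Iso.refl _) (by cat_disch) :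
        Scheme.ProEt.forget Y ⋙ Over.pullback f ≅ ProEtS.bcP f ⋙ Scheme.ProEt.forget X)
  exact preservesLimitsOfShape_of_reflects_of_preserves _ (Scheme.ProEt.forget X)

/-- base change preserves pro-etale coverings -/
theorem precoverage_le_comap_bcP (f : X ⟶ Y) :
    Scheme.ProEt.precoverage Y ≤ (Scheme.ProEt.precoverage X).comap (ProEtS.bcP f) := by
  intro U R hR
  obtain ⟨ι, V, g, rfl⟩ := R.exists_eq_ofArrows
  rw [ofArrows_mem_precoverage_iff] at hR
  rw [Precoverage.mem_comap_iff, Presieve.map_ofArrows, ofArrows_mem_precoverage_iff]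
  refine Precoverage.mem_coverings_of_isPullback _ hR (pullback.fst U.hom f)
    _ (fun i => pullback.fst (V i).hom f) fun i => ?_
  have hw : ((ProEtS.bcP f).map (g i)).left ≫ pullback.snd U.hom f = pullback.snd (V i).hom f :=
    MorphismProperty.Over.w ((ProEtS.bcP f).map (g i))
  refine (IsPullback.of_bot ?_ ?_ (IsPullback.of_hasPullback U.hom f)).flip
  · exact (IsPullback.of_hasPullback (V i).hom f).of_iso (Iso.refl _) (Iso.refl _) (Iso.refl _)
      (Iso.refl _)
      ((Category.comp_id _).trans (Category.id_comp _).symm)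
      ((Category.comp_id _).trans (hw.symm.trans (Category.id_comp _).symm))
      (((Category.comp_id _).trans (MorphismProperty.Over.w (g i)).symm).trans (Category.id_comp _).symm)
      ((Category.comp_id _).trans (Category.id_comp _).symm)
  · exact (pullback.lift_fst _ _ _).symm

theorem pCont (f : X ⟶ Y) : ProEtS.PCont f := by
  have : (Scheme.ProEt.precoverage X).IsStableUnderBaseChange := by
    unfold Scheme.ProEt.precoverage; infer_instance
  have : (Scheme.ProEt.precoverage Y).IsStableUnderBaseChange := by
    unfold Scheme.ProEt.precoverage; infer_instance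
  have : (Scheme.ProEt.precoverage X).HasPullbacks := by
    unfold Scheme.ProEt.precoverage; infer_instance
  have : (Scheme.ProEt.precoverage Y).HasPullbacks := by
    unfold Scheme.ProEt.precoverage; infer_instance
  exact Functor.isContinuous_toGrothendieck_of_pullbacksPreservedBy (F := ProEtS.bcP f)
    (J := Scheme.ProEt.precoverage Y) (K := Scheme.ProEt.precoverage X)
    (precoverage_le_comap_bcP f)

end Groth.Agent.ProEtLib
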