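import Groth.Agent.ProEtLib.EpsSec
import Groth.Agent.ProEtLib.Cover
import Groth.Agent.ProStage.EtaleStage
import Groth.Agent.S0734

/-! pulled back sheaves on limits of affine etale schemes; Cech exactness of pulled back injectives -/

universe u

open CategoryTheory CategoryTheory.Limits AlgebraicGeometry Opposite MorphismProperty

namespace Groth.Agent.ProEtLib

open SitePullUnit ProStage

set_option backward.isDefEq.respectTransparency.types false

variable {X : Scheme.{u}} {U₀ : X.Etale} [IsAffine U₀.left] {W P : X.ProEt} {f : P ⟶ W}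
  {w : W ⟶ (ProEtS.eps X).obj U₀}

local notation "G" => ProEtS.eps X
local notation "K" => Scheme.ProEt.topology X

section Limit

variable (hW : IsPro (ovS w)) (hP : IsPro (ovS (f ≫ w)))
include hW hP

theorem isAffine_powers (n : ℕ) : IsAffine ((proPowers f).obj n).left :=
  @isAffine_schPow _ _ f.left hP.isAffine hW.isAffine n

theorem isPro_pow (n : ℕ) : IsPro (ovS ((proPowers f).toBase n ≫ w)) := by
  have : IsAffine (powOv f w n).left := isAffine_powers hW hP n
  have hA : ∀ k, IsAffine ((powDiag f w n).obj k).left := isAffine_powDiag n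
  have hE : ∀ k, Etale ((powDiag f w n).obj k).hom := etale_powDiag n
  exact isPro_of_isLimit (powDiag f w n) (powPi n) (nonempty_isLimit_pow hW hP n).some

/-- maps of fibre powers to etale schemes factor through fibre powers of stages -/
theorem exists_factor_pow (n : ℕ) (T : Over U₀.left) [LocallyOfFinitePresentation T.hom]
    (a : powOv f w n ⟶ T) : ∃ (k : MapStage f w) (g : (powDiag f w n).obj k ⟶ T), (powPi n).app k ≫ g = a := by
  have hA : ∀ k, IsAffine ((powDiag f w n).obj k).left := isAffine_powDiag n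
  exact ProStage.exists_factor (powDiag f w n) (powPi n) (nonempty_isLimit_pow hW hP n).some T a

/-- opens containing the image of a fibre power contain a later fibre power -/
theorem exists_range_subset (k : MapStage f w) (n : ℕ) (O : ((pk k).obj n).left.Opens)
    (hO : ∀ z : ((proPowers f).obj n).left, (gam k n).left.base z ∈ O) :
    ∃ (l : MapStage f w) (g : l ⟶ k), ∀ z, (pm g n).left.base z ∈ O := by
  let D := powDiag f w n ⋙ CategoryTheory.Over.forget U₀.left
  have hA : ∀ j, IsAffine (D.obj j) := isAffine_powDiag n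
  have : ∀ {i j} (g : i ⟶ j), IsAffineHom (D.map g) := fun {i j} g =>
    @isAffineHom_of_isAffine _ _ _ (hA i) (hA j)
  have : ∀ j, CompactSpace (D.obj j) := fun j => by
    have := hA j
    infer_instance
  obtain ⟨l, g, hg⟩ := exists_map_eq_top D _ (nonempty_isLimit_pow hW hP n).some (i := k) O
    (eq_top_iff.2 fun z _ => hO z)
  exact ⟨l, g, fun z => hg.ge (trivial : z ∈ (⊤ : (D.obj l).Opens))⟩

end Limit

variable [ProEtS.EpsCont X] (F : EtCoh.Ab X)

theorem sGerm_zero [RepresentablyFlat (ProEtS.eps X)] {d : X.ProEt} {U : X.Etale} (b : d ⟶ (ProEtS.eps X).obj U) :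
    sGerm G K F b 0 = 0 := by
  rw [sGerm, map_zero, map_zero]

/-- germs of the fibre powers of stages commute with the differentials -/
theorem sGerm_d [RepresentablyFlat (ProEtS.eps X)] (k : MapStage f w) (n : ℕ)
    (y : F.obj.obj (op ((pk k).obj n))) :
    sGerm G K F (gam k (n + 1)) ((pk k).d F.obj y) =
      (proPowers f).d (pulled G K F) (sGerm G K F (gam k n) y) := by
  rw [sGerm, Powers.d, map_sum, map_sum, Powers.d]
  refine Finset.sum_congr rfl fun j _ => ?_
  rw [map_zsmul, map_zsmul]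
  congr 1
  exact (sGerm_map G K F ((pk k).face n j) (gam k (n + 1)) y).trans
    ((congrArg (fun b => sGerm G K F b y) (gam_face k n j).symm).trans (map_sGerm G K F _ _ y).symm)

theorem sGerm_pm [RepresentablyFlat (ProEtS.eps X)] {k l : MapStage f w} (g : l ⟶ k) (n : ℕ)
    (y : F.obj.obj (op ((pk k).obj n))) :
    sGerm G K F (gam l n) (F.obj.map (pm g n).op y) = sGerm G K F (gam k n) y := by
  rw [sGerm_map, gam_pm]

theorem pm_d {k l : MapStage f w} (g : l ⟶ k) (n : ℕ) (y : F.obj.obj (op ((pk k).obj n))) :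
    F.obj.map (pm g (n + 1)).op ((pk k).d F.obj y) = (pk l).d F.obj (F.obj.map (pm g n).op y) := by
  rw [Powers.d, Powers.d, map_sum]
  refine Finset.sum_congr rfl fun j _ => ?_
  rw [map_zsmul]
  congr 1
  simp only [← ConcreteCategory.comp_apply, ← Functor.map_comp, ← op_comp, pm_face]

section Main

variable [RepresentablyFlat (ProEtS.eps X)] (hW : IsPro (ovS w)) (hP : IsPro (ovS (f ≫ w)))
include hW hP

/-- a section on a stage vanishing on the limit vanishes at a later stage -/
theorem exists_kill (k : MapStage f w) (n : ℕ) (y : F.obj.obj (op ((pk k).obj n)))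
    (hy : sGerm G K F (gam k n) y = 0) :
    ∃ (l : MapStage f w) (g : l ⟶ k), F.obj.map (pm g n).op y = 0 := by
  obtain ⟨l, g, hg⟩ := exists_range_subset hW hP k n (agree F y 0)
    (sGerm_agree F (gam k n) y 0 (hy.trans (sGerm_zero F _).symm))
  exact ⟨l, g, (map_eq_of_agree F (pm g n) y 0 hg).trans (map_zero _)⟩

end Main

/-- the identification of the zeroth power of a stage with its source -/
noncomputable def srcPow (k : MapStage f w) : (pk k).obj 0 ⟶ (toX U₀).obj k.right.left :=
  MorphismProperty.Over.homMk (𝟙 _) (by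
    change 𝟙 _ ≫ ((toX U₀).obj k.right.left).hom = (cX k).left ≫ ((toX U₀).obj k.right.right).hom
    rw [Category.id_comp, MorphismProperty.Over.w (cX k)])

theorem srcPow_eq (k : MapStage f w) : srcPow k = (pk k).pr 0 0 :=
  MorphismProperty.Over.Hom.ext rfl

/-- affine objects over `U₀` which are limits of stages have weakly contractible covers of the same kind -/
theorem exists_pro_cover [IsAffine W.left] (hW : IsPro (ovS w)) :
    ∃ (V : X.ProEt) (g : V ⟶ W), Sieve.generate (Presieve.singleton g) ∈ Scheme.ProEt.topology X W ∧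
      Criterion V ∧ IsPro (ovS (g ≫ w)) := by
  obtain ⟨R, _, _, hff, hie, hwc⟩ := WStrictLib.exists_wContractible Γ(W.left, ⊤)
  have : Algebra.WeaklyEtale Γ(W.left, ⊤) R := S0736.result _ _ hie
  have := weaklyEtale_spec Γ(W.left, ⊤) R
  have : Surjective (Spec.map (CommRingCat.ofHom (algebraMap Γ(W.left, ⊤) R))) :=
    ⟨PrimeSpectrum.comap_surjective_of_faithfullyFlat⟩
  have : WeaklyEtale W.hom := W.prop
  let p : Spec (CommRingCat.of R) ⟶ W.left :=
    Spec.map (CommRingCat.ofHom (algebraMap Γ(W.left, ⊤) R)) ≫ W.left.isoSpec.inv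
  let V : X.ProEt := Scheme.ProEt.mk (p ≫ W.hom)
  let g : V ⟶ W := MorphismProperty.Over.homMk p
  have hV : IsAffine V.left := inferInstanceAs (IsAffine (Spec (CommRingCat.of R)))
  refine ⟨V, g, @singleton_mem_topology _ _ _ g (inferInstanceAs (QuasiCompact p))
    (inferInstanceAs (Surjective p)), criterion_of_wContractible (wContractible_of_ringEquiv
      (Scheme.ΓSpecIso (CommRingCat.of R)).symm.commRingCatIsoToRingEquiv hwc), ?_⟩
  have : IsAffine (ovS (g ≫ w)).left := hV
  refine isPro_of_isIndEtale ?_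
  letI : Algebra Γ(U₀.left, ⊤) Γ(W.left, ⊤) := (ovS w).hom.appTop.hom.toAlgebra
  letI : Algebra Γ(U₀.left, ⊤) Γ(V.left, ⊤) := (ovS (g ≫ w)).hom.appTop.hom.toAlgebra
  letI : Algebra Γ(W.left, ⊤) Γ(V.left, ⊤) := g.left.appTop.hom.toAlgebra
  have htow : IsScalarTower Γ(U₀.left, ⊤) Γ(W.left, ⊤) Γ(V.left, ⊤) :=
    IsScalarTower.of_algebraMap_eq fun r =>
      ConcreteCategory.congr_hom (Scheme.Hom.comp_appTop g.left (show W.left ⟶ U₀.left from w.left)) r
  refine S0734.result Γ(U₀.left, ⊤) Γ(W.left, ⊤) Γ(V.left, ⊤) hW.isIndEtale ?_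
  refine IndEtLib.isIndEtale_of_factor fun Q _ _ _ φ => ?_
  let e : Γ(V.left, ⊤) ≃+* R := (Scheme.ΓSpecIso (CommRingCat.of R)).commRingCatIsoToRingEquiv
  have he : ∀ r, e (algebraMap Γ(W.left, ⊤) Γ(V.left, ⊤) r) = algebraMap Γ(W.left, ⊤) R r := fun r => by
    have h2 : p.appTop ≫ (Scheme.ΓSpecIso (CommRingCat.of R)).hom =
        CommRingCat.ofHom (algebraMap Γ(W.left, ⊤) R) := by
      rw [Scheme.Hom.comp_appTop, Category.assoc, Scheme.ΓSpecIso_naturality]
      have h3 := congrArg (fun f : W.left ⟶ W.left => f.appTop) W.left.isoSpec.hom_inv_id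
      simp only [Scheme.Hom.comp_appTop, Scheme.isoSpec_hom, Scheme.toSpecΓ_appTop] at h3
      exact (Category.assoc _ _ _).symm.trans ((congrArg (· ≫ _) h3).trans (Category.id_comp _))
    exact ConcreteCategory.congr_hom h2 r
  let e' : Γ(V.left, ⊤) ≃ₐ[Γ(W.left, ⊤)] R := AlgEquiv.ofRingEquiv (f := e) he
  obtain ⟨Y, hY, ⟨eY⟩⟩ := IndEtLib.exists_sys hie
  obtain ⟨j, ψ, hψ⟩ := Y.exists_lift Q (eY.symm.toAlgHom.comp (e'.toAlgHom.comp φ))
  refine ⟨Y.A j, inferInstance, inferInstance, hY j, ψ, e'.symm.toAlgHom.comp (eY.toAlgHom.comp (Y.ι j)),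
    AlgHom.ext fun q => ?_⟩
  simp only [AlgHom.comp_apply, AlgEquiv.toAlgHom_apply]
  rw [show Y.ι j (ψ q) = eY.symm (e' (φ q)) from AlgHom.congr_fun hψ q]
  simp

/-- every section over a limit of affine etale schemes is a germ at a stage -/
theorem exists_germ [RepresentablyFlat (ProEtS.eps X)] (hW : IsPro (ovS w))
    (s : (pulled G K F).obj (op W)) :
    ∃ (a : StructuredArrow (ovS w) (toOv U₀.left)) (x : F.obj.obj (op ((toX U₀).obj a.right))),
      sGerm G K F (sMap a) x = s := by
  have : IsAffine W.left := hW.isAffine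
  obtain ⟨V, g, hcov, hcr, hV⟩ := exists_pro_cover hW
  obtain ⟨U₁, b, x₁, hx₁⟩ := exists_sGerm_of_criterion F hcr ((pulled G K F).map g.op s)
  -- move the germ to a stage
  have hU₀ : Etale U₀.hom := U₀.prop
  have hU₁ : Etale U₁.hom := U₁.prop
  let T : Over U₀.left := CategoryTheory.Over.mk (pullback.snd U₁.hom U₀.hom)
  have : LocallyOfFinitePresentation T.hom :=
    inferInstanceAs (LocallyOfFinitePresentation (pullback.snd U₁.hom U₀.hom))
  have hV0 : IsAffine (ovS (g ≫ w)).left := hV.isAffine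
  let a₀ : ovS (g ≫ w) ⟶ T := CategoryTheory.Over.homMk
    (pullback.lift b.left (g ≫ w).left ((MorphismProperty.Over.w b).trans (MorphismProperty.Over.w (g ≫ w)).symm))
    (pullback.lift_snd _ _ _)
  have hA : ∀ i : StructuredArrow (ovS (g ≫ w)) (toOv U₀.left),
      IsAffine ((StructuredArrow.proj _ (toOv U₀.left) ⋙ toOv U₀.left).obj i).left := fun i => isAffine_toOv i.right
  obtain ⟨i, g', hg'⟩ := ProStage.exists_factor (StructuredArrow.proj (ovS (g ≫ w)) (toOv U₀.left) ⋙ toOv U₀.left)
    { app := fun i => i.hom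
      naturality := fun i j h => (Category.id_comp _).trans (StructuredArrow.w h).symm }
    hV.isLimit.some T a₀
  let gm : ((toOv U₀.left).obj i.right).left ⟶ U₁.left := g'.left ≫ pullback.fst U₁.hom U₀.hom
  let h₁ : (toX U₀).obj i.right ⟶ U₁ := MorphismProperty.Over.homMk gm (by
    change (g'.left ≫ pullback.fst U₁.hom U₀.hom) ≫ U₁.hom = ((toOv U₀.left).obj i.right).hom ≫ U₀.hom
    rw [Category.assoc, pullback.condition, ← Category.assoc]
    exact congrArg (· ≫ U₀.hom) (CategoryTheory.Over.w g'))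
  have hb : sMap i ≫ (ProEtS.eps X).map h₁ = b := MorphismProperty.Over.Hom.ext (by
    refine (Category.assoc _ _ _).symm.trans ?_
    refine (congrArg (· ≫ pullback.fst U₁.hom U₀.hom) (congrArg (fun e => e.left) hg')).trans ?_
    exact pullback.lift_fst _ _ _)
  obtain ⟨k, r, -⟩ := exists_stage (toOv U₀.left) (ovHom g w) i IsCofiltered.nonempty.some
  let y : F.obj.obj (op ((pk k).obj 0)) :=
    F.obj.map (srcPow k ≫ (toX U₀).map r.right ≫ h₁).op x₁
  have hy : sGerm G K F (gam k 0) y = (pulled G K F).map ((proPowers g).toBase 0).op s := by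
    have e1 : gam k 0 ≫ (ProEtS.eps X).map (srcPow k ≫ (toX U₀).map r.right ≫ h₁) = (proPowers g).pr 0 0 ≫ b := by
      rw [srcPow_eq, Functor.map_comp, ← Category.assoc, gam_pr, Category.assoc, Functor.map_comp,
        ← Category.assoc (sMap k.src), sMap_map, hb]
    rw [sGerm_map, e1, ← map_sGerm, hx₁, ← ConcreteCategory.comp_apply, ← Functor.map_comp, ← op_comp,
      (proPowers g).pr_comp]
  have hy' : sGerm G K F (gam k 1) ((pk k).d F.obj y) = 0 := by
    rw [sGerm_d, hy, Powers.d, Fin.sum_univ_two]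
    simp only [← ConcreteCategory.comp_apply, ← Functor.map_comp, ← op_comp, Powers.face, Powers.lift_toBase]
    simp
  obtain ⟨l, gl, hl⟩ := exists_kill F hW hV k 1 _ hy'
  rw [pm_d] at hl
  let y' := F.obj.map (pm gl 0).op y
  -- descend to the image in the stage
  have hc : Etale (cX l).left := EtFound.etale_left (cX l)
  let Ω : Scheme.Opens ((toOv U₀.left).obj l.right.right).left :=
    ⟨Set.range (cX l).left.base, (cX l).left.isOpenMap.isOpen_range⟩
  have : Etale ((toOv U₀.left).obj l.right.right).hom := etale_toOv _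
  let O : X.Etale := Scheme.Etale.mk (Ω.ι ≫ ((toOv U₀.left).obj l.right.right).hom ≫ U₀.hom)
  have hΩ : IsOpenImmersion (Scheme.Opens.ι Ω) := inferInstance
  let lc : ((pk l).obj 0).left ⟶ Ω.toScheme := IsOpenImmersion.lift Ω.ι ((pk l).toBase 0).left (by
    rintro _ ⟨z, rfl⟩
    exact ⟨⟨_, z, rfl⟩, rfl⟩)
  have hlc : lc ≫ Ω.ι = ((pk l).toBase 0).left := IsOpenImmersion.lift_fac _ _ _
  let c₀ : (pk l).obj 0 ⟶ O := MorphismProperty.Over.homMk lc (by
    change lc ≫ Ω.ι ≫ _ = _
    rw [← Category.assoc, hlc]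
    exact MorphismProperty.Over.w ((pk l).toBase 0))
  let jO : O ⟶ (toX U₀).obj l.right.right := MorphismProperty.Over.homMk Ω.ι
  have hc₀ : c₀ ≫ jO = (pk l).toBase 0 := MorphismProperty.Over.Hom.ext hlc
  obtain ⟨x₂, hx₂⟩ := exists_etale_glue F (fun _ : Unit => (pk l).obj 0) (fun _ => c₀) (fun z => by
    obtain ⟨v, hv⟩ := z.2
    exact ⟨(), v, Subtype.ext ((congrArg (fun e : ((pk l).obj 0).left ⟶ _ => e.base v) hlc).trans hv)⟩)
    (fun _ => y') fun _ _ Z a a' haa' => by
      have hq : ∀ j : Fin 2, (![a, a'] j ≫ (pk l).pr 0 0) ≫ cX l = a ≫ (pk l).toBase 0 := by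
        intro j
        rw [Category.assoc, (pk l).pr_comp]
        fin_cases j
        · rfl
        · change a' ≫ (pk l).toBase 0 = a ≫ (pk l).toBase 0
          rw [← hc₀, reassoc_of% haa']
      let L := (pk l).lift 1 _ _ hq
      have hL : ∀ j : Fin 2, L ≫ (pk l).face 0 j = ![a, a'] (j.succAbove 0) := fun j =>
        (pk l).hom_ext 0 _ _ fun i => by
          obtain rfl : i = 0 := Fin.fin_one_eq_zero i
          rw [Category.assoc, (pk l).face_pr, (pk l).lift_pr]
      have h0 : F.obj.map L.op ((pk l).d F.obj y') = 0 := by rw [hl, map_zero]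
      rw [Powers.d, Fin.sum_univ_two, map_add, map_zsmul, map_zsmul] at h0
      simp only [← ConcreteCategory.comp_apply, ← Functor.map_comp, ← op_comp, hL] at h0
      change F.obj.map a.op y' = F.obj.map a'.op y'
      simp only [Fin.val_zero, Fin.val_one, pow_zero, pow_one, one_smul, neg_smul, Fin.succAbove_zero,
        show Fin.succAbove (1 : Fin 2) 0 = 0 from rfl] at h0
      exact (sub_eq_zero.1 ((sub_eq_add_neg _ _).trans h0)).symm
  -- the limit lands in the image
  let tW : W ⟶ (ProEtS.eps X).obj ((toX U₀).obj l.right.right) := sMap l.tgt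
  have hsurj : Function.Surjective g.left.base := fun z => by
    obtain ⟨d, h, v, ⟨Z, h', _, ⟨⟩, rfl⟩, hv⟩ := exists_hit hcov z
    exact ⟨_, hv⟩
  let lw : W.left ⟶ Ω.toScheme := IsOpenImmersion.lift Ω.ι tW.left (by
    rintro _ ⟨z, rfl⟩
    obtain ⟨v, rfl⟩ := hsurj z
    exact ⟨⟨_, (sMap l.src).left.base v, congrArg (fun e => e.left.base v) (sMap_comm l)⟩, rfl⟩)
  have hlw : lw ≫ Ω.ι = tW.left := IsOpenImmersion.lift_fac _ _ _
  let bO : W ⟶ (ProEtS.eps X).obj O := MorphismProperty.Over.homMk lw (by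
    change lw ≫ Ω.ι ≫ _ = _
    rw [← Category.assoc, hlw]
    exact MorphismProperty.Over.w tW)
  have hbO : (proPowers g).toBase 0 ≫ bO = gam l 0 ≫ (ProEtS.eps X).map c₀ := by
    refine MorphismProperty.Over.Hom.ext ((cancel_mono Ω.ι).1 ?_)
    refine (Category.assoc _ _ _).trans ((congrArg (((proPowers g).toBase 0).left ≫ ·) hlw).trans ?_)
    refine Eq.trans ?_ (Category.assoc _ _ _).symm
    refine Eq.trans ?_ (congrArg ((gam l 0).left ≫ ·) hlc).symm
    exact congrArg (fun e => e.left) (gam_toBase l 0).symm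
  have hs : sGerm G K F bO x₂ = s := by
    refine ((presheafToSheaf K AddCommGrpCat.{u + 1}).obj _).2.isSeparated W _ hcov _ _ ?_
    rintro d h ⟨_, a, _, ⟨⟩, rfl⟩
    have key : (pulled G K F).map g.op (sGerm G K F bO x₂) = (pulled G K F).map g.op s := by
      have e : ((proPowers g).toBase 0) = (proPowers g).pr 0 0 ≫ g := ((proPowers g).pr_comp 0 0).symm
      let ι0 : V ⟶ (proPowers g).obj 0 := (proPowers g).lift 0 g (fun _ => 𝟙 _) fun _ => Category.id_comp _
      have hι : ι0 ≫ (proPowers g).toBase 0 = g := (proPowers g).lift_toBase _ _ _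
      rw [← hι, op_comp, Functor.map_comp, ConcreteCategory.comp_apply, ConcreteCategory.comp_apply]
      congr 1
      rw [map_sGerm, hbO, ← sGerm_map, hx₂ (), sGerm_pm, hy]
    rw [op_comp, Functor.map_comp, ConcreteCategory.comp_apply, ConcreteCategory.comp_apply, key]
  -- and factors through a stage
  let TO : Over U₀.left := CategoryTheory.Over.mk (Ω.ι ≫ ((toOv U₀.left).obj l.right.right).hom)
  have : Etale ((toOv U₀.left).obj l.right.right).hom := etale_toOv _
  have : LocallyOfFinitePresentation TO.hom :=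
    inferInstanceAs (LocallyOfFinitePresentation (Ω.ι ≫ ((toOv U₀.left).obj l.right.right).hom))
  let aO : ovS w ⟶ TO := CategoryTheory.Over.homMk lw (by
    change lw ≫ Ω.ι ≫ _ = w.left
    rw [← Category.assoc, hlw]
    exact congrArg (fun e => e.left) (sMap_base l.tgt))
  have hA' : ∀ i : StructuredArrow (ovS w) (toOv U₀.left),
      IsAffine ((StructuredArrow.proj _ (toOv U₀.left) ⋙ toOv U₀.left).obj i).left := fun i => isAffine_toOv i.right
  obtain ⟨i', g'', hg''⟩ := ProStage.exists_factor (StructuredArrow.proj (ovS w) (toOv U₀.left) ⋙ toOv U₀.left)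
    { app := fun i => i.hom
      naturality := fun i j h => (Category.id_comp _).trans (StructuredArrow.w h).symm }
    hW.isLimit.some TO aO
  let h₂ : (toX U₀).obj i'.right ⟶ O := MorphismProperty.Over.homMk g''.left (by
    change g''.left ≫ Ω.ι ≫ ((toOv U₀.left).obj l.right.right).hom ≫ U₀.hom =
      ((toOv U₀.left).obj i'.right).hom ≫ U₀.hom
    rw [← Category.assoc Ω.ι, ← Category.assoc]
    exact congrArg (· ≫ U₀.hom) (CategoryTheory.Over.w g''))
  refine ⟨i', F.obj.map h₂.op x₂, ?_⟩
  rw [sGerm_map, show sMap i' ≫ (ProEtS.eps X).map h₂ = bO from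
    MorphismProperty.Over.Hom.ext (congrArg (fun e => e.left) hg'')]
  exact hs

/-- pulled back injective sheaves have no higher Cech cohomology on covers by limits of stages -/
theorem exists_preimage_pulled [RepresentablyFlat (ProEtS.eps X)] (hW : IsPro (ovS w))
    (hP : IsPro (ovS (f ≫ w))) [Injective F] (n : ℕ) (z : (pulled G K F).obj (op ((proPowers f).obj (n + 1))))
    (hz : (proPowers f).d (pulled G K F) z = 0) :
    ∃ v, (proPowers f).d (pulled G K F) (n := n) v = z := by
  obtain ⟨a, x, rfl⟩ := exists_germ F (isPro_pow hW hP (n + 1)) z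
  obtain ⟨k, g, hg⟩ := exists_factor_pow hW hP (n + 1) ((toOv U₀.left).obj a.right) a.hom
  let h : (pk k).obj (n + 1) ⟶ (toX U₀).obj a.right := MorphismProperty.Over.homMk g.left (by
    change g.left ≫ ((toOv U₀.left).obj a.right).hom ≫ U₀.hom = _
    rw [← Category.assoc]
    refine (congrArg (· ≫ U₀.hom) (CategoryTheory.Over.w g)).trans ?_
    exact MorphismProperty.Over.w ((pk k).toBase (n + 1) ≫ toXBase U₀ k.right.right))
  let y := F.obj.map h.op x
  have hy : sGerm G K F (gam k (n + 1)) y = sGerm G K F (sMap a) x := by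
    rw [sGerm_map, show gam k (n + 1) ≫ (ProEtS.eps X).map h = sMap a from
      MorphismProperty.Over.Hom.ext (congrArg (fun e => e.left) hg)]
  obtain ⟨l, gl, hl⟩ := exists_kill F hW hP k (n + 2) ((pk k).d F.obj y) (by rw [sGerm_d, hy, hz])
  rw [pm_d] at hl
  have : Injective F.obj := Injective.injective_of_adjoint (sheafificationAdjunction _ _) F
  obtain ⟨v, hv⟩ := (pk l).exists_preimage F.obj (F.obj.map (pm gl (n + 1)).op y) hl
  refine ⟨sGerm G K F (gam l n) v, ?_⟩
  rw [← sGerm_d, hv, sGerm_pm, hy]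

end Groth.Agent.ProEtLib
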