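import Groth.Agent.ProEtLib.WC
import Groth.Agent.SitePullUnit.Basic

/-! the unit `F → ε_* ε⁻¹ F` is bijective locally on the small etale site -/

universe u

open CategoryTheory CategoryTheory.Limits AlgebraicGeometry Opposite MorphismProperty

namespace Groth.Agent.ProEtLib

open SitePullUnit

set_option backward.isDefEq.respectTransparency.types false

theorem notMem_closure_image {M A : Scheme.{u}} [CompactSpace M] [IsAffine A] (h : M ⟶ A)
    (Z : Set M) (hZ : IsClosed Z) (a : A) (ha : ∀ z ∈ Z, ¬ h.base z ⤳ a) :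
    a ∉ closure (h.base '' Z) := by
  intro hcl
  obtain ⟨R, g, hg⟩ := compactSpace_iff_exists.mp ‹CompactSpace M›
  obtain ⟨φ, hφ⟩ := Spec.homEquiv.symm.surjective (g ≫ h ≫ A.isoSpec.hom)
  let e := A.isoSpec.hom.homeomorph
  obtain ⟨I, hI⟩ := (PrimeSpectrum.isClosed_iff_zeroLocus_ideal _).1 (hZ.preimage g.continuous)
  have hphi : ∀ q : PrimeSpectrum R, (PrimeSpectrum.comap φ.hom q) = e (h.base (g.base q)) := fun q =>
    congrArg (fun f : Spec R ⟶ Spec Γ(A, ⊤) => f.base q) hφ
  have hsub : e '' (h.base '' Z) ⊆ PrimeSpectrum.zeroLocus (I.comap φ.hom : Set Γ(A, ⊤)) := by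
    rintro _ ⟨_, ⟨z, hz, rfl⟩, rfl⟩
    obtain ⟨q, rfl⟩ := hg z
    rw [← hphi q]
    have : (I : Set R) ⊆ q.asIdeal := (Set.ext_iff.1 hI q).1 hz
    exact fun x hx => this hx
  have hea : e a ∈ PrimeSpectrum.zeroLocus (I.comap φ.hom : Set Γ(A, ⊤)) :=
    (closure_minimal hsub (PrimeSpectrum.isClosed_zeroLocus _))
      (image_closure_subset_closure_image e.continuous ⟨a, hcl, rfl⟩)
  obtain ⟨p, hp, hle⟩ := Ideal.exists_minimalPrimes_le (I := I.comap φ.hom)
    (J := (e a : PrimeSpectrum Γ(A, ⊤)).asIdeal) hea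
  obtain ⟨p', hp', hIp', hcomap⟩ := Ideal.exists_comap_eq_of_mem_minimalPrimes φ.hom p hp
  refine ha (g.base ⟨p', hp'⟩) ((Set.ext_iff.1 hI ⟨p', hp'⟩).2 fun x hx => hIp' hx)
    (e.isInducing.specializes_iff.1 ?_)
  rw [← hphi ⟨p', hp'⟩]
  refine (PrimeSpectrum.le_iff_specializes _ _).1 ?_
  change p'.comap φ.hom ≤ _
  rw [hcomap]
  exact hle

variable {X : Scheme.{u}}

/-- covering sieves reach every point -/
theorem exists_hit {U : X.ProEt} {R : Sieve U} (hR : R ∈ Scheme.ProEt.topology X U) (x : U.left) :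
    ∃ (V : X.ProEt) (g : V ⟶ U) (v : V.left), R g ∧ g.left.base v = x := by
  obtain ⟨T, hT, hle⟩ := (mem_topology_iff R).1 hR
  obtain ⟨ι, V, g, rfl⟩ := T.exists_eq_ofArrows
  rw [ofArrows_mem_precoverage_iff, mem_proetalePrecoverage_iff] at hT
  obtain ⟨i, v, hv⟩ := hT.2.1 x
  exact ⟨V i, g i, v, hle _ _ ⟨i⟩, hv⟩

/-- over an affine object, covering sieves contain finite covers by quasi-compact objects -/
theorem exists_finite_compact_cover {U : X.ProEt} [IsAffine U.left] {R : Sieve U}
    (hR : R ∈ Scheme.ProEt.topology X U) :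
    ∃ (ι : Type u) (_ : Finite ι) (P : ι → X.ProEt) (g : ∀ i, P i ⟶ U),
      (∀ i, R (g i)) ∧ (∀ i, CompactSpace (P i).left) ∧ (∀ x, ∃ i, x ∈ Set.range (g i).left.base) ∧
        Sieve.generate (Presieve.ofArrows P g) ∈ Scheme.ProEt.topology X U := by
  obtain ⟨T, hT, hle⟩ := (mem_topology_iff R).1 hR
  obtain ⟨ι, V, g, rfl⟩ := T.exists_eq_ofArrows
  rw [ofArrows_mem_precoverage_iff, mem_proetalePrecoverage_iff] at hT
  have := hT.1
  obtain ⟨n, a, O, hO, hcov⟩ := QuasiCompactCover.exists_isAffineOpen_of_isCompact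
    (PreZeroHypercover.mk ι (fun i => (V i).left) fun i => (g i).left) (U := (⊤ : U.left.Opens))
    isCompact_univ
  let P : ULift.{u} (Fin n) → X.ProEt := fun k => opObj (V (a k.down)) (O k.down)
  let p : ∀ k, P k ⟶ U := fun k => opHom (V (a k.down)) (O k.down) ≫ g (a k.down)
  have hcomp : ∀ k, CompactSpace (P k).left := fun k => isCompact_iff_compactSpace.1 (hO k.down).isCompact
  have hsurj : ∀ x, ∃ k, x ∈ Set.range (p k).left.base := fun x => by
    have hx : x ∈ ((⊤ : U.left.Opens) : Set U.left) := trivial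
    rw [← hcov, Set.mem_iUnion] at hx
    obtain ⟨k, y, hy, hyx⟩ := hx
    exact ⟨⟨k⟩, ⟨y, hy⟩, hyx⟩
  refine ⟨_, inferInstance, P, p, fun k => R.downward_closed (hle _ _ ⟨a k.down⟩) _, hcomp, hsurj, ?_⟩
  rw [mem_topology_iff]
  refine ⟨_, ?_, Sieve.le_generate _⟩
  rw [ofArrows_mem_precoverage_iff, mem_proetalePrecoverage_iff]
  refine ⟨⟨fun {U'} hU' => IsCompactOpenCovered.of_finite_of_isSpectralMap
    (fun k => ?_) (fun x _ => hsurj x) U'.2 hU'.isCompact⟩, hsurj, fun k => weaklyEtale_left (p k)⟩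
  have := hcomp k
  have : QuasiCompact (p k).left := quasiCompact_iff_compactSpace _ |>.2 inferInstance
  exact (p k).left.isSpectralMap

variable [ProEtS.EpsCont X] (F : EtCoh.Ab X)

/-- the points over which two sections agree etale locally -/
def agree {Q : X.Etale} (x y : F.obj.obj (op Q)) : Q.left.Opens :=
  ⟨{z | ∃ (T : X.Etale) (c : T ⟶ Q) (v : T.left), c.left.base v = z ∧
      F.obj.map c.op x = F.obj.map c.op y}, by
    rw [isOpen_iff_forall_mem_open]
    rintro _ ⟨T, c, v, rfl, h⟩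
    have := EtFound.etale_left c
    exact ⟨Set.range c.left.base, by rintro _ ⟨w, rfl⟩; exact ⟨T, c, w, rfl, h⟩,
      c.left.isOpenMap.isOpen_range, v, rfl⟩⟩

local notation "G" => ProEtS.eps X
local notation "K" => Scheme.ProEt.topology X

theorem repFlat_eps : RepresentablyFlat (ProEtS.eps X) := by
  have : PreservesFiniteLimits (ProEtS.eps X) := by
    have : PreservesFiniteLimits (ProEtS.eps X ⋙ Scheme.ProEt.forget X) :=
      inferInstanceAs (PreservesFiniteLimits (Scheme.Etale.forget X))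
    exact ⟨fun J _ _ => preservesLimitsOfShape_of_reflects_of_preserves _ (Scheme.ProEt.forget X)⟩
  exact flat_of_preservesFiniteLimits _

theorem sGerm_eq_of_agree [RepresentablyFlat (ProEtS.eps X)] {d : X.ProEt} {Q : X.Etale} (b : d ⟶ (ProEtS.eps X).obj Q)
    (x y : F.obj.obj (op Q)) (h : ∀ z : d.left, b.left.base z ∈ agree F x y) :
    sGerm G K F b x = sGerm G K F b y := by
  let E : Scheme.Opens Q.left := agree F x y
  have : IsOpenImmersion (Scheme.Opens.ι E) := inferInstance
  let Q' : X.Etale := Scheme.Etale.mk (E.ι ≫ Q.hom)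
  let j : Q' ⟶ Q := MorphismProperty.Over.homMk E.ι
  have hxy : F.obj.map j.op x = F.obj.map j.op y := by
    let S : Sieve Q' :=
      { arrows := fun T f => F.obj.map f.op (F.obj.map j.op x) = F.obj.map f.op (F.obj.map j.op y)
        downward_closed := fun {T T'} f hf k => by
          simp only [op_comp, Functor.map_comp, ConcreteCategory.comp_apply, hf] }
    refine F.2.isSeparated Q' S ((EtFound.mem_topology_iff S).2 fun z => ?_) _ _ fun _ _ hf => hf
    obtain ⟨T, c, v, hv, hc⟩ := z.2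
    have := EtFound.etale_left c
    let T' : X.Etale := Scheme.Etale.mk ((c.left ⁻¹ᵁ E).ι ≫ T.hom)
    let r : T' ⟶ Q' := MorphismProperty.Over.homMk (c.left ∣_ E) (by
      change (c.left ∣_ E) ≫ E.ι ≫ Q.hom = _
      rw [← Category.assoc, morphismRestrict_ι, Category.assoc, MorphismProperty.Over.w c]; rfl)
    let i : T' ⟶ T := MorphismProperty.Over.homMk (c.left ⁻¹ᵁ E).ι
    have hri : r ≫ j = i ≫ c := MorphismProperty.Over.Hom.ext (morphismRestrict_ι c.left E)
    refine ⟨T', r, ⟨v, by change c.left.base v ∈ E; rw [hv]; exact z.2⟩, ?_, Subtype.ext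
      ((congrArg (fun f : (c.left ⁻¹ᵁ E).toScheme ⟶ Q.left => f.base _) (morphismRestrict_ι c.left E)).trans hv)⟩
    change F.obj.map r.op (F.obj.map j.op x) = F.obj.map r.op (F.obj.map j.op y)
    simp only [← ConcreteCategory.comp_apply, ← Functor.map_comp, ← op_comp, hri]
    simp only [op_comp, Functor.map_comp, ConcreteCategory.comp_apply, hc]
  have hr : Set.range b.left.base ⊆ Set.range E.ι.base := by
    rintro _ ⟨z, rfl⟩
    exact ⟨⟨_, h z⟩, rfl⟩
  let l : d.left ⟶ E.toScheme := IsOpenImmersion.lift E.ι (show d.left ⟶ Q.left from b.left) hr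
  have hl : l ≫ E.ι = b.left := IsOpenImmersion.lift_fac _ _ _
  let b' : d ⟶ (ProEtS.eps X).obj Q' := MorphismProperty.Over.homMk l
    (by change l ≫ E.ι ≫ Q.hom = _
        rw [← Category.assoc, hl]
        exact MorphismProperty.Over.w b)
  have hb : b' ≫ (ProEtS.eps X).map j = b := MorphismProperty.Over.Hom.ext hl
  rw [← hb, ← sGerm_map, ← sGerm_map, hxy]

theorem sGerm_agree [RepresentablyFlat (ProEtS.eps X)] {d : X.ProEt} {Q : X.Etale}
    (b : d ⟶ (ProEtS.eps X).obj Q)
    (x y : F.obj.obj (op Q)) (h : sGerm G K F b x = sGerm G K F b y) (z : d.left) :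
    b.left.base z ∈ agree F x y := by
  obtain ⟨R, hR, hR'⟩ := exists_cover_of_sGerm_eq G K F b x y h
  obtain ⟨d', f, v, hf, rfl⟩ := exists_hit hR z
  obtain ⟨T, b', c, hc, hxy⟩ := hR' f hf
  exact ⟨T, c, b'.left.base v, congrArg (fun e => e.left.base v) hc, hxy⟩

theorem sGerm_id {U : X.Etale} (x : F.obj.obj (op U)) :
    sGerm G K F (𝟙 ((ProEtS.eps X).obj U)) x = (conUnit G K F).app (op U) x := by
  rw [sGerm, op_id, CategoryTheory.Functor.map_id]; rfl

theorem isLocallyInjective_conUnit :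
    Presheaf.IsLocallyInjective X.smallEtaleTopology (conUnit G K F) where
  equalizerSieve_mem {U} x y h := by
    have := repFlat_eps (X := X)
    rw [EtFound.mem_topology_iff]
    intro z
    obtain ⟨T, c, v, hv, hc⟩ := sGerm_agree F (𝟙 ((ProEtS.eps X).obj U.unop)) x y
      (((sGerm_id F x).trans h).trans (sGerm_id F y).symm) z
    exact ⟨T, c, v, hc, hv⟩

theorem exists_section_affine [RepresentablyFlat (ProEtS.eps X)] (U : X.Etale) [IsAffine U.left]
    (t : (pulled G K F).obj (op ((ProEtS.eps X).obj U))) (z : U.left) :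
    ∃ (V : X.Etale) (g : V ⟶ U) (v : V.left) (x : F.obj.obj (op V)), g.left.base v = z ∧
      (conUnit G K F).app (op V) x = (pulled G K F).map ((ProEtS.eps X).map g).op t := by
  obtain ⟨R, hR, hR'⟩ := exists_cover_sGerm G K F t
  have : IsAffine ((ProEtS.eps X).obj U).left := ‹IsAffine U.left›
  obtain ⟨ι, _, P, g, hg, hP, hsurj, hcov⟩ := exists_finite_compact_cover hR
  choose U₀ b₀ x₀ hx₀ using fun k => hR' (g k) (hg k)
  -- move the germs over `U`
  have hU : Etale U.hom := U.prop
  have hU₀ : ∀ k, Etale (U₀ k).hom := fun k => (U₀ k).prop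
  let L : ι → X.Etale := fun k => Scheme.Etale.mk (pullback.fst U.hom (U₀ k).hom ≫ U.hom)
  let c : ∀ k, L k ⟶ U := fun k => MorphismProperty.Over.homMk (pullback.fst U.hom (U₀ k).hom)
  let e : ∀ k, L k ⟶ U₀ k := fun k =>
    MorphismProperty.Over.homMk (pullback.snd U.hom (U₀ k).hom) pullback.condition.symm
  let b : ∀ k, P k ⟶ (ProEtS.eps X).obj (L k) := fun k => MorphismProperty.Over.homMk
    (pullback.lift (g k).left (b₀ k).left
      ((MorphismProperty.Over.w (g k)).trans (MorphismProperty.Over.w (b₀ k)).symm))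
    (by change _ ≫ pullback.fst _ _ ≫ U.hom = _
        rw [pullback.lift_fst_assoc]; exact MorphismProperty.Over.w (g k))
  have hbc : ∀ k, b k ≫ (ProEtS.eps X).map (c k) = g k := fun k =>
    MorphismProperty.Over.Hom.ext (pullback.lift_fst _ _ _)
  let x : ∀ k, F.obj.obj (op (L k)) := fun k => F.obj.map (e k).op (x₀ k)
  have hx : ∀ k, sGerm G K F (b k) (x k) = (pulled G K F).map (g k).op t := fun k => by
    rw [← hx₀ k, sGerm_map]
    congr 1
    exact MorphismProperty.Over.Hom.ext (pullback.lift_snd _ _ _)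
  -- a chosen piece through `z`
  obtain ⟨k₀, p, hp⟩ := hsurj z
  obtain ⟨A₁, hA, hpA, -⟩ := TopologicalSpace.Opens.isBasis_iff_nbhd.mp (L k₀).left.isBasis_affineOpens
    (TopologicalSpace.Opens.mem_top ((b k₀).left.base p))
  let A₀ : Scheme.Opens (L k₀).left := A₁
  have : IsAffine A₀.toScheme := hA
  -- comparison on `L k₀ ×_U L k`
  let Q : ι → X.Etale := fun k =>
    Scheme.Etale.mk (pullback.fst (c k₀).left (c k).left ≫ (L k₀).hom)
  have hc : ∀ k, Etale (c k).left := fun k => EtFound.etale_left (c k)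
  let q₁ : ∀ k, Q k ⟶ L k₀ := fun k => MorphismProperty.Over.homMk (pullback.fst (c k₀).left (c k).left)
  let q₂ : ∀ k, Q k ⟶ L k := fun k => MorphismProperty.Over.homMk (pullback.snd (c k₀).left (c k).left)
    (by change _ ≫ (c k).left ≫ U.hom = pullback.fst _ _ ≫ (c k₀).left ≫ U.hom
        rw [pullback.condition_assoc])
  let E : ∀ k, (Q k).left.Opens := fun k =>
    agree F (F.obj.map (q₁ k).op (x k₀)) (F.obj.map (q₂ k).op (x k))
  have hbcl : ∀ k, (b k).left ≫ (c k).left = (g k).left := fun k =>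
    congrArg (fun f => f.left) (hbc k)
  let toQ : ∀ k, pullback (A₀.ι ≫ (c k₀).left) (g k).left ⟶ (Q k).left := fun k =>
    pullback.lift (pullback.fst _ _ ≫ A₀.ι) (pullback.snd _ _ ≫ (b k).left)
      (by rw [Category.assoc, Category.assoc]; exact pullback.condition.trans (congrArg _ (hbcl k).symm))
  let Z : ∀ k, Set ↥(pullback (A₀.ι ≫ (c k₀).left) (g k).left) := fun k =>
    (toQ k).base ⁻¹' (E k : Set (Q k).left)ᶜ
  have hM : ∀ k, CompactSpace ↥(pullback (A₀.ι ≫ (c k₀).left) (g k).left) := fun k => by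
    have := hP k
    have : QuasiCompact (g k).left := quasiCompact_iff_compactSpace _ |>.2 inferInstance
    exact QuasiCompact.compactSpace_of_compactSpace (pullback.fst (A₀.ι ≫ (c k₀).left) (g k).left)
  have key : ∀ k, (⟨_, hpA⟩ : A₀.toScheme) ∉
      closure ((pullback.fst (A₀.ι ≫ (c k₀).left) (g k).left).base '' Z k) := fun k => by
    have := hM k
    refine notMem_closure_image _ _ ((E k).2.isClosed_compl.preimage (toQ k).continuous) _ fun m hm hs => ?_
    have : WeaklyEtale (b k₀).left := weaklyEtale_left (b k₀)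
    obtain ⟨p', -, hp'⟩ := (Flat.generalizingMap (b k₀).left) (hs.map A₀.ι.continuous)
    -- the pair of pieces
    have : WeaklyEtale (g k₀).left := weaklyEtale_left (g k₀)
    have : WeaklyEtale (g k).left := weaklyEtale_left (g k)
    have : WeaklyEtale (P k₀).hom := (P k₀).prop
    let N : X.ProEt := Scheme.ProEt.mk (pullback.fst (g k₀).left (g k).left ≫ (P k₀).hom)
    let n₁ : N ⟶ P k₀ := MorphismProperty.Over.homMk (pullback.fst (g k₀).left (g k).left)
    let n₂ : N ⟶ P k := MorphismProperty.Over.homMk (pullback.snd (g k₀).left (g k).left)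
      (by change _ ≫ (P k).hom = pullback.fst _ _ ≫ (P k₀).hom
          rw [← MorphismProperty.Over.w (g k), ← MorphismProperty.Over.w (g k₀), pullback.condition_assoc])
    let β : N ⟶ (ProEtS.eps X).obj (Q k) := MorphismProperty.Over.homMk
      (pullback.map (g k₀).left (g k).left (c k₀).left (c k).left (b k₀).left (b k).left (𝟙 U.left)
        ((Category.comp_id _).trans (hbcl k₀).symm) ((Category.comp_id _).trans (hbcl k).symm))
      (by change _ ≫ pullback.fst _ _ ≫ (L k₀).hom = pullback.fst _ _ ≫ (P k₀).hom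
          rw [pullback.lift_fst_assoc, Category.assoc]
          exact congrArg _ (MorphismProperty.Over.w (b k₀)))
    have h₁ : β ≫ (ProEtS.eps X).map (q₁ k) = n₁ ≫ b k₀ :=
      MorphismProperty.Over.Hom.ext (pullback.lift_fst _ _ _)
    have h₂ : β ≫ (ProEtS.eps X).map (q₂ k) = n₂ ≫ b k :=
      MorphismProperty.Over.Hom.ext (pullback.lift_snd _ _ _)
    have heq : sGerm G K F β (F.obj.map (q₁ k).op (x k₀)) = sGerm G K F β (F.obj.map (q₂ k).op (x k)) := by
      refine (sGerm_map G K F (q₁ k) β (x k₀)).trans (Eq.trans ?_ (sGerm_map G K F (q₂ k) β (x k)).symm)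
      rw [h₁, h₂, ← map_sGerm, ← map_sGerm, hx, hx,
        ← ConcreteCategory.comp_apply, ← ConcreteCategory.comp_apply, ← Functor.map_comp,
        ← Functor.map_comp, ← op_comp, ← op_comp,
        show n₁ ≫ g k₀ = n₂ ≫ g k from MorphismProperty.Over.Hom.ext pullback.condition]
    have hmem : (toQ k).base m ∈ Set.range (pullback.map (g k₀).left (g k).left (c k₀).left (c k).left
        (b k₀).left (b k).left (𝟙 U.left)
        ((Category.comp_id _).trans (hbcl k₀).symm) ((Category.comp_id _).trans (hbcl k).symm)).base := by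
      have hmono : Mono (𝟙 U.left) := ⟨fun g h e => by simpa using e⟩
      refine (Set.ext_iff.1 (@Scheme.Pullback.range_map _ _ _ (g k₀).left (g k).left _ _ _ (c k₀).left (c k).left
        (b k₀).left (b k).left (𝟙 U.left) _ _ hmono) _).2 ?_
      refine ⟨⟨p', hp'.trans ?_⟩, ⟨(pullback.snd (A₀.ι ≫ (c k₀).left) (g k).left).base m, ?_⟩⟩
      · exact (congrArg (fun f : _ ⟶ (L k₀).left => f.base m)
          (pullback.lift_fst _ _ _ : toQ k ≫ pullback.fst _ _ = _)).symm
      · exact (congrArg (fun f : _ ⟶ (L k).left => f.base m)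
          (pullback.lift_snd _ _ _ : toQ k ≫ pullback.snd _ _ = _)).symm
    obtain ⟨ν, hν⟩ := hmem
    apply hm
    rw [← hν]
    exact sGerm_agree F β _ _ heq ν
  let W : A₀.toScheme.Opens :=
    ⟨⋂ k, (closure ((pullback.fst (A₀.ι ≫ (c k₀).left) (g k).left).base '' Z k))ᶜ,
      isOpen_iInter_of_finite fun k => isClosed_closure.isOpen_compl⟩
  let w : W.toScheme ⟶ (L k₀).left := W.ι ≫ A₀.ι
  have : Etale (L k₀).hom := (L k₀).prop
  let V : X.Etale := Scheme.Etale.mk (w ≫ (L k₀).hom)
  let i : V ⟶ L k₀ := MorphismProperty.Over.homMk w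
  refine ⟨V, i ≫ c k₀, ⟨⟨_, hpA⟩, Set.mem_iInter.2 key⟩, F.obj.map i.op (x k₀), ?_, ?_⟩
  · exact (congrArg (fun f : (P k₀).left ⟶ U.left => f.base p) (hbcl k₀)).trans hp
  · refine ((presheafToSheaf K AddCommGrpCat.{u + 1}).obj _).2.isSeparated _ _
      ((Scheme.ProEt.topology X).pullback_stable ((ProEtS.eps X).map (i ≫ c k₀)) hcov) _ _ ?_
    rintro d h ⟨_, a, _, ⟨k⟩, ha⟩
    rw [← sGerm_id, sGerm_map, map_sGerm, ← ConcreteCategory.comp_apply, ← Functor.map_comp,
      ← op_comp, ← ha, op_comp, Functor.map_comp, ConcreteCategory.comp_apply, ← hx k, map_sGerm]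
    have hal : a.left ≫ (g k).left = h.left ≫ w ≫ (c k₀).left := congrArg (fun f => f.left) ha
    let β : d ⟶ (ProEtS.eps X).obj (Q k) := MorphismProperty.Over.homMk
      (pullback.lift (h.left ≫ w) (a.left ≫ (b k).left)
        (by rw [Category.assoc, Category.assoc]; exact hal.symm.trans (congrArg _ (hbcl k).symm)))
      (by change _ ≫ pullback.fst _ _ ≫ (L k₀).hom = _
          rw [pullback.lift_fst_assoc, Category.assoc]
          exact MorphismProperty.Over.w h)
    have h₁ : β ≫ (ProEtS.eps X).map (q₁ k) = h ≫ 𝟙 _ ≫ (ProEtS.eps X).map i :=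
      MorphismProperty.Over.Hom.ext ((pullback.lift_fst _ _ _).trans
        (congrArg (h.left ≫ ·) (Category.id_comp w).symm))
    have h₂ : β ≫ (ProEtS.eps X).map (q₂ k) = a ≫ b k :=
      MorphismProperty.Over.Hom.ext (pullback.lift_snd _ _ _)
    rw [← h₁, ← h₂, ← sGerm_map, ← sGerm_map]
    refine sGerm_eq_of_agree F β _ _ fun π => ?_
    let l : d.left ⟶ pullback (A₀.ι ≫ (c k₀).left) (g k).left :=
      pullback.lift (h.left ≫ W.ι) a.left
        ((Category.assoc _ _ _).trans ((congrArg (h.left ≫ ·) (Category.assoc W.ι A₀.ι _).symm).trans hal.symm))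
    have hl : l ≫ toQ k = β.left := by
      refine pullback.hom_ext ?_ ?_
      · refine ((Category.assoc _ _ _).trans ((congrArg (l ≫ ·) (pullback.lift_fst _ _ _)).trans
          ((Category.assoc _ _ _).symm.trans ((congrArg (· ≫ A₀.ι) (pullback.lift_fst _ _ _)).trans
            ((Category.assoc _ _ _).trans ?_)))))
        exact (pullback.lift_fst _ _ _).symm
      · refine ((Category.assoc _ _ _).trans ((congrArg (l ≫ ·) (pullback.lift_snd _ _ _)).trans
          ((Category.assoc _ _ _).symm.trans ((congrArg (· ≫ (b k).left) (pullback.lift_snd _ _ _)).trans ?_))))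
        exact (pullback.lift_snd _ _ _).symm
    rw [← hl]
    by_contra hne
    refine Set.mem_iInter.1 (h.left.base π).2 k (subset_closure ⟨l.base π, hne, ?_⟩)
    exact congrArg (fun f : d.left ⟶ A₀.toScheme => f.base π) (pullback.lift_fst _ _ _ : l ≫ _ = _)

theorem isLocallySurjective_conUnit :
    Presheaf.IsLocallySurjective X.smallEtaleTopology (conUnit G K F) where
  imageSieve_mem {U} t := by
    have := repFlat_eps (X := X)
    rw [EtFound.mem_topology_iff]
    intro z
    obtain ⟨A₁, hA, hz, -⟩ := TopologicalSpace.Opens.isBasis_iff_nbhd.mp U.left.isBasis_affineOpens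
      (TopologicalSpace.Opens.mem_top z)
    have : Etale U.hom := U.prop
    let A : Scheme.Opens U.left := A₁
    let U' : X.Etale := Scheme.Etale.mk (A.ι ≫ U.hom)
    have : IsAffine U'.left := hA
    let j : U' ⟶ U := MorphismProperty.Over.homMk A.ι
    obtain ⟨V, g, v, x, hv, hx⟩ :=
      exists_section_affine F U' ((pulled G K F).map ((ProEtS.eps X).map j).op t) ⟨z, hz⟩
    refine ⟨V, g ≫ j, v, ⟨x, hx.trans ?_⟩, congrArg (fun q : A.toScheme => q.1) hv⟩
    rw [← ConcreteCategory.comp_apply, ← Functor.map_comp, ← op_comp, ← Functor.map_comp]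
    rfl

end Groth.Agent.ProEtLib
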