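import Groth.Agent.BigSiteLib.LanFlat
import Groth.Agent.BigSiteLib.Shriek
import Groth.Agent.SiteBase.LerayTop
import Groth.Prelude.Def_ProEtS
import Mathlib.CategoryTheory.Adjunction.Triple

/-! the small and the big pro-étale site -/

set_option autoImplicit false

universe u

open CategoryTheory CategoryTheory.Limits AlgebraicGeometry Opposite

namespace Groth.Agent.ProEtLib

set_option backward.isDefEq.respectTransparency.types false

variable {S T : Scheme.{u}}

abbrev bigJ (S : Scheme.{u}) : GrothendieckTopology (Over S) := Scheme.proetaleTopology.over S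

abbrev resSmall (S : Scheme.{u}) : Sheaf (bigJ S) AddCommGrpCat.{u + 1} ⥤ ProEtS.AbP S :=
  (Scheme.ProEt.forget S).sheafPushforwardContinuous AddCommGrpCat.{u + 1} (Scheme.ProEt.topology S) (bigJ S)

theorem piPull_exact (S : Scheme.{u}) :
    PreservesFiniteLimits ((Scheme.ProEt.forget S).sheafPullback AddCommGrpCat.{u + 1} (Scheme.ProEt.topology S) (bigJ S)) :=
  BigSiteLib.sheafPullback_preservesFiniteLimits (Scheme.ProEt.forget S) _ _

theorem injective_resSmall (S : Scheme.{u}) (I : Sheaf (bigJ S) AddCommGrpCat.{u + 1}) [Injective I] :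
    Injective ((resSmall S).obj I) := by
  haveI := piPull_exact S
  exact Injective.injective_of_adjoint
    ((Scheme.ProEt.forget S).sheafAdjunctionContinuous AddCommGrpCat.{u + 1} (Scheme.ProEt.topology S) (bigJ S)) I

theorem injective_pullBig (f : T ⟶ S) (I : Sheaf (bigJ S) AddCommGrpCat.{u + 1}) [Injective I] :
    Injective (((Over.map f).sheafPushforwardContinuous AddCommGrpCat.{u + 1} (bigJ T) (bigJ S)).obj I) := by
  haveI := BigSiteLib.lan_map_preservesFiniteLimits f
  haveI : PreservesFiniteLimits ((Over.map f).sheafPullback AddCommGrpCat.{u + 1} (bigJ T) (bigJ S)) := by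
    refine preservesFiniteLimits_of_natIso (F := sheafToPresheaf _ _ ⋙ ((Over.map f).op.lan ⋙ presheafToSheaf (bigJ S) AddCommGrpCat.{u + 1})) ?_
    exact (Functor.sheafPullbackConstruction.sheafPullbackIso (Over.map f) AddCommGrpCat.{u + 1} (bigJ T) (bigJ S)).symm
  exact Injective.injective_of_adjoint ((Over.map f).sheafAdjunctionContinuous AddCommGrpCat.{u + 1} (bigJ T) (bigJ S)) I

theorem injective_restrict (f : T ⟶ S)
    [(Scheme.ProEt.forget T ⋙ Over.map f).IsContinuous (Scheme.ProEt.topology T) (bigJ S)]
    (I : Sheaf (bigJ S) AddCommGrpCat.{u + 1}) [Injective I] :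
    Injective (((Scheme.ProEt.forget T ⋙ Over.map f).sheafPushforwardContinuous AddCommGrpCat.{u + 1}
      (Scheme.ProEt.topology T) (bigJ S)).obj I) := by
  haveI := injective_pullBig f I
  exact Injective.of_iso ((Functor.sheafPushforwardContinuousComp (Scheme.ProEt.forget T) (Over.map f)
    AddCommGrpCat.{u + 1} (Scheme.ProEt.topology T) (bigJ T) (bigJ S)).app I) (injective_resSmall T _)

theorem cocont (S : Scheme.{u}) : (Scheme.ProEt.forget S).IsCocontinuous (Scheme.ProEt.topology S) (bigJ S) := by
  haveI : (Scheme.ProEt.forget S).IsContinuous ((Scheme.ProEt.forget S).restrictedTopology (bigJ S)) (bigJ S) := by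
    rw [Functor.isContinuous_iff_coverPreserving]
    exact Functor.coverPreserving_restrictedTopology _ _
  rw [Scheme.ProEt.topology_eq_inducedTopology, ← Functor.restrictedTopology_eq_inducedTopology]
  infer_instance

theorem isIso_unit_small (S : Scheme.{u}) (G : ProEtS.AbP S) :
    IsIso (((Scheme.ProEt.forget S).sheafAdjunctionContinuous AddCommGrpCat.{u + 1}
      (Scheme.ProEt.topology S) (bigJ S)).unit.app G) := by
  haveI := cocont S
  let F := Scheme.ProEt.forget S
  haveI : F.Full := inferInstance
  haveI : F.Faithful := inferInstance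
  let adj₁ := F.sheafAdjunctionContinuous AddCommGrpCat.{u + 1} (Scheme.ProEt.topology S) (bigJ S)
  let adj := F.sheafAdjunctionCocontinuous AddCommGrpCat.{u + 1} (Scheme.ProEt.topology S) (bigJ S)
  haveI : ∀ P, IsIso (adj.counit.app P) := fun P => by
    haveI : IsIso ((sheafToPresheaf _ _).map (adj.counit.app P)) := by
      show IsIso (adj.counit.app P).hom
      rw [Functor.sheafAdjunctionCocontinuous_counit_app_hom, Functor.ranAdjunction_counit]
      haveI : F.op.HasPointwiseRightKanExtension P.obj := inferInstance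
      haveI : ∀ X, IsIso ((F.op.ranCounit.app P.obj).app X) := fun X =>
        (F.op.isPointwiseRightKanExtensionRanCounit P.obj (F.op.obj X)).isIso_hom_app
      exact @NatIso.isIso_of_isIso_app _ _ _ _ _ _ _ this
    exact isIso_of_reflects_iso _ (sheafToPresheaf _ _)
  haveI : IsIso adj.counit := NatIso.isIso_of_isIso_app _
  haveI : IsIso adj₁.unit := (Adjunction.Triple.isIso_unit_iff_isIso_counit ⟨adj₁, adj⟩).2 inferInstance
  infer_instance

theorem resSmall_exact (S : Scheme.{u}) :
    PreservesFiniteLimits (resSmall S) ∧ PreservesFiniteColimits (resSmall S) := by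
  haveI := cocont S
  haveI : (resSmall S).IsLeftAdjoint :=
    ((Scheme.ProEt.forget S).sheafAdjunctionCocontinuous AddCommGrpCat.{u + 1} (Scheme.ProEt.topology S) (bigJ S)).isLeftAdjoint
  haveI : (resSmall S).IsRightAdjoint :=
    ((Scheme.ProEt.forget S).sheafAdjunctionContinuous AddCommGrpCat.{u + 1} (Scheme.ProEt.topology S) (bigJ S)).isRightAdjoint
  exact ⟨inferInstance, inferInstance⟩

end Groth.Agent.ProEtLib
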