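import Groth.Agent.ProEtLib.WC

/-! sections of sheafifications over weakly contractible affines -/

universe u

open CategoryTheory CategoryTheory.Limits AlgebraicGeometry Opposite MorphismProperty

namespace Groth.Agent.ProEtLib

set_option backward.isDefEq.respectTransparency.types false

variable {X : Scheme.{u}}

/-- a disjoint open cover presents an object as a coproduct -/
theorem isColimit_disjoint (U : X.ProEt) {n : ℕ} (W : Fin n → U.left.Opens)
    (hd : Pairwise fun i j => Disjoint (W i : Set U.left) (W j)) (hc : ∀ x, ∃ i, x ∈ W i) :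
    Nonempty (IsColimit (Cofan.mk U fun i => opHom U (W i))) := by
  have key : ∀ (Z : X.ProEt) (h : ∀ i, opObj U (W i) ⟶ Z), ∃! m : U ⟶ Z, ∀ i, opHom U (W i) ≫ m = h i := by
    intro Z h
    have hc' : ∀ x, ∃ k : ULift.{u} (Fin n), x ∈ W k.down := fun x => ⟨⟨(hc x).choose⟩, (hc x).choose_spec⟩
    have hs := Presieve.isSheafFor_iff_generate _ |>.2
      ((GrothendieckTopology.Subcanonical.isSheaf_of_isRepresentable
        (J := Scheme.ProEt.topology X) (yoneda.obj Z)) _
        (opens_mem_topology U (fun k : ULift.{u} (Fin n) => W k.down) hc'))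
    have hcomp : Presieve.Arrows.Compatible (yoneda.obj Z)
        (fun k : ULift.{u} (Fin n) => opHom U (W k.down)) (fun k => h k.down) := by
      intro i j T a b hab
      by_cases hij : i = j
      · subst hij
        have h1 : a.left ≫ (W i.down).ι = b.left ≫ (W i.down).ι := congrArg (fun f => f.left) hab
        have h2 : a = b := MorphismProperty.Over.Hom.ext ((cancel_mono (W i.down).ι).1 h1)
        rw [h2]
      · have : IsEmpty T.left := ⟨fun z => by
          have h1 : a.left ≫ (W i.down).ι = b.left ≫ (W j.down).ι := congrArg (fun f => f.left) hab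
          have h2 : ((a.left.base z).1 : U.left) = (b.left.base z).1 :=
            congrArg (fun f : T.left ⟶ U.left => f.base z) h1
          exact Set.disjoint_left.1 (hd fun h => hij (ULift.ext _ _ h)) (a.left.base z).2
            (h2 ▸ (b.left.base z).2)⟩
        exact MorphismProperty.Over.Hom.ext (isInitialOfIsEmpty.hom_ext _ _)
    obtain ⟨m, hm, hu⟩ := (Presieve.isSheafFor_arrows_iff _ _).1 hs _ hcomp
    exact ⟨m, fun i => hm ⟨i⟩, fun m' hm' => hu m' fun k => hm' k.down⟩
  exact ⟨Cofan.IsColimit.mk _ (fun t => (key t.pt t.inj).choose)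
    (fun t j => (key t.pt t.inj).choose_spec.1 j)
    fun t m hm => (key t.pt t.inj).choose_spec.2 m hm⟩

variable (F : X.ProEtᵒᵖ ⥤ Type (u + 1)) [PreservesFiniteProducts F]

theorem existsUnique_of_disjoint (U : X.ProEt) {n : ℕ} (W : Fin n → U.left.Opens)
    (hd : Pairwise fun i j => Disjoint (W i : Set U.left) (W j)) (hc : ∀ x, ∃ i, x ∈ W i)
    (t : ∀ i, F.obj (op (opObj U (W i)))) :
    ∃! s, ∀ i, F.map (opHom U (W i)).op s = t i := by
  obtain ⟨hcol⟩ := isColimit_disjoint U W hd hc
  have hlim := isLimitOfPreserves F (Cofan.IsColimit.op hcol)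
  obtain ⟨s, hs, hu⟩ := (Types.isLimit_iff _).1 ⟨hlim⟩ (fun j => t j.as) (by
    rintro ⟨i⟩ ⟨j⟩ ⟨⟨⟨⟩⟩⟩
    simp)
  exact ⟨s, fun i => hs ⟨i⟩, fun s' hs' => hu s' fun j => hs' j.as⟩

omit [PreservesFiniteProducts F] in
theorem bijective_toSheafify_app (U : X.ProEt) (hU : Criterion U)
    (hF : ∀ {n : ℕ} (W : Fin n → U.left.Opens),
      Pairwise (fun i j => Disjoint (W i : Set U.left) (W j)) → (∀ x, ∃ i, x ∈ W i) →
      ∀ t : ∀ i, F.obj (op (opObj U (W i))), ∃! s, ∀ i, F.map (opHom U (W i)).op s = t i) :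
    Function.Bijective ((toSheafify (Scheme.ProEt.topology X) F).app (op U)) := by
  set φ := toSheafify (Scheme.ProEt.topology X) F
  have hc : ∀ {n : ℕ} {W : Fin n → U.left.Opens}, (⋃ k, (W k : Set ↥U.left)) = Set.univ →
      ∀ x, ∃ i, x ∈ W i := fun h x => Set.mem_iUnion.1 (h.symm ▸ Set.mem_univ x)
  refine ⟨fun a b hab => ?_, fun s => ?_⟩
  · obtain ⟨n, W, -, hd, hcov, hW⟩ := hU _ (Presheaf.equalizerSieve_mem (Scheme.ProEt.topology X) φ a b hab)
    exact (hF W hd (hc hcov) fun i => F.map (opHom U (W i)).op b).unique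
      hW fun _ => rfl
  · obtain ⟨n, W, -, hd, hcov, hW⟩ := hU _ (Presheaf.imageSieve_mem (Scheme.ProEt.topology X) φ s)
    choose t ht using hW
    obtain ⟨a, ha, -⟩ := hF W hd (hc hcov) t
    refine ⟨a, ?_⟩
    have hsep := Presieve.isSheafFor_iff_generate _ |>.2
      (((isSheaf_iff_isSheaf_of_type _ _).1 ((presheafToSheaf (Scheme.ProEt.topology X) _ |>.obj F).2)) _
        (opens_mem_topology U (fun k : ULift.{u} (Fin n) => W k.down) fun x =>
          ⟨⟨(hc hcov x).choose⟩, (hc hcov x).choose_spec⟩))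
    refine hsep.isSeparatedFor.ext ?_
    rintro _ _ ⟨k⟩
    rw [← NatTrans.naturality_apply φ, ha k.down, ht k.down]

end Groth.Agent.ProEtLib
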