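import Groth.Agent.ProEtLib.EpsUnit
import Groth.Agent.ProEtLib.Sheafify

/-! sections of pulled back sheaves: agreement, gluing, germs over weakly contractible objects -/

universe u

open CategoryTheory CategoryTheory.Limits AlgebraicGeometry Opposite MorphismProperty

namespace Groth.Agent.ProEtLib

open SitePullUnit

set_option backward.isDefEq.respectTransparency.types false

variable {X : Scheme.{u}} [ProEtS.EpsCont X] (F : EtCoh.Ab X)

local notation "G" => ProEtS.eps X
local notation "K" => Scheme.ProEt.topology X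

/-- sections agreeing at all points of the image of a morphism agree after pullback -/
theorem map_eq_of_agree {T Q : X.Etale} (h : T ⟶ Q) (x y : F.obj.obj (op Q))
    (hh : ∀ t : T.left, h.left.base t ∈ agree F x y) : F.obj.map h.op x = F.obj.map h.op y := by
  let S : Sieve T :=
    { arrows := fun T' f => F.obj.map f.op (F.obj.map h.op x) = F.obj.map f.op (F.obj.map h.op y)
      downward_closed := fun {T' T''} f hf k => by
        simp only [op_comp, Functor.map_comp, ConcreteCategory.comp_apply, hf] }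
  refine F.2.isSeparated T S ((EtFound.mem_topology_iff S).2 fun t => ?_) _ _ fun _ _ hf => hf
  obtain ⟨T₁, c, v, hv, hc⟩ := hh t
  have := EtFound.etale_left c
  have : Etale T.hom := T.prop
  let P : X.Etale := Scheme.Etale.mk (pullback.fst h.left c.left ≫ T.hom)
  let r : P ⟶ T := MorphismProperty.Over.homMk (pullback.fst h.left c.left)
  let r₁ : P ⟶ T₁ := MorphismProperty.Over.homMk (pullback.snd h.left c.left) (by
    change _ = pullback.fst _ _ ≫ T.hom
    rw [← MorphismProperty.Over.w c, ← MorphismProperty.Over.w h, pullback.condition_assoc]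
    rfl)
  have hr : r ≫ h = r₁ ≫ c := MorphismProperty.Over.Hom.ext pullback.condition
  obtain ⟨p, hp, -⟩ := Scheme.Pullback.exists_preimage_pullback (f := h.left) (g := c.left) t v hv.symm
  refine ⟨P, r, p, ?_, hp⟩
  change F.obj.map r.op (F.obj.map h.op x) = F.obj.map r.op (F.obj.map h.op y)
  simp only [← ConcreteCategory.comp_apply, ← Functor.map_comp, ← op_comp, hr]
  simp only [op_comp, Functor.map_comp, ConcreteCategory.comp_apply, hc]

theorem eq_of_agree {Q : X.Etale} (x y : F.obj.obj (op Q)) (h : agree F x y = ⊤) : x = y := by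
  simpa using map_eq_of_agree F (𝟙 Q) x y fun t => h.symm ▸ (trivial : t ∈ (⊤ : Q.left.Opens))

/-- gluing along jointly surjective families -/
theorem exists_etale_glue {U : X.Etale} {ι : Type*} (V : ι → X.Etale) (j : ∀ i, V i ⟶ U)
    (hs : ∀ z, ∃ i, z ∈ Set.range (j i).left.base) (t : ∀ i, F.obj.obj (op (V i)))
    (hcompat : ∀ i k (Z : X.Etale) (a : Z ⟶ V i) (b : Z ⟶ V k), a ≫ j i = b ≫ j k →
      F.obj.map a.op (t i) = F.obj.map b.op (t k)) :
    ∃ s, ∀ i, F.obj.map (j i).op s = t i := by
  have hsh : Presieve.IsSheafFor (F.obj ⋙ CategoryTheory.forget AddCommGrpCat.{u + 1})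
      (Presieve.ofArrows V j) := by
    rw [Presieve.isSheafFor_iff_generate]
    refine (isSheaf_iff_isSheaf_of_type _ _).1
      ((sheafCompose X.smallEtaleTopology (CategoryTheory.forget AddCommGrpCat.{u + 1})).obj F).property _ ?_
    rw [EtFound.mem_topology_iff]
    intro z
    obtain ⟨i, v, hv⟩ := hs z
    exact ⟨V i, j i, v, Sieve.le_generate _ _ _ ⟨i⟩, hv⟩
  obtain ⟨s, hs', -⟩ := (Presieve.isSheafFor_arrows_iff _ _).1 hsh t fun i k Z a b hab => hcompat i k Z a b hab
  exact ⟨s, hs'⟩

/-- over a weakly contractible object every section of the pulled back sheaf is a germ -/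
theorem exists_sGerm_of_criterion [RepresentablyFlat (ProEtS.eps X)] {P : X.ProEt} (hP : Criterion P)
    (s : (pulled G K F).obj (op P)) :
    ∃ (U : X.Etale) (b : P ⟶ (ProEtS.eps X).obj U) (x : F.obj.obj (op U)), sGerm G K F b x = s := by
  obtain ⟨R, hR, hR'⟩ := exists_cover_sGerm G K F s
  obtain ⟨n, D, -, hd, hcov, hD⟩ := hP R hR
  choose U b x hx using fun k => hR' _ (hD k)
  let c : ULift.{u} (Fin n) → Scheme.{u} := fun k => (U k.down).left
  let q : ∀ k, c k ⟶ X := fun k => (U k.down).hom
  have : Etale (Sigma.desc q) := IsZariskiLocalAtSource.sigmaDesc fun k => (U k.down).prop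
  let U₁ : X.Etale := Scheme.Etale.mk (Sigma.desc q)
  let j : ∀ k : Fin n, U k ⟶ U₁ := fun k => MorphismProperty.Over.homMk (Sigma.ι c ⟨k⟩) (Sigma.ι_desc (f := c) q ⟨k⟩)
  have hjd : ∀ i k, i ≠ k → Disjoint (Set.range (j i).left.base) (Set.range (j k).left.base) := fun i k hik => by
    have := disjoint_opensRange_sigmaι c ⟨i⟩ ⟨k⟩ fun h => hik (congrArg ULift.down h)
    rw [← TopologicalSpace.Opens.coe_disjoint] at this
    exact this
  obtain ⟨x₁, hx₁⟩ := exists_etale_glue F U j (fun z => by
      obtain ⟨⟨⟨k⟩, y⟩, hy⟩ := (sigmaMk c).surjective z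
      exact ⟨k, y, by rw [← hy]; exact (sigmaMk_mk c ⟨k⟩ y).symm⟩) x fun i k Z a a' haa' => by
    by_cases hik : i = k
    · subst hik
      have : IsOpenImmersion (j i).left := inferInstanceAs (IsOpenImmersion (Sigma.ι c ⟨i⟩))
      rw [show a = a' from MorphismProperty.Over.Hom.ext
        ((cancel_mono (j i).left).1 (congrArg (fun f => f.left) haa'))]
    · refine F.2.isSeparated Z ⊥ ?_ _ _ fun Y f hf => hf.elim
      rw [EtFound.mem_topology_iff]
      intro z
      exact absurd (congrArg (fun f : Z.left ⟶ U₁.left => f.base z) (congrArg (fun f => f.left) haa'))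
        fun h => Set.disjoint_left.1 (hjd i k hik) ⟨a.left.base z, rfl⟩ ⟨a'.left.base z, h.symm⟩
  obtain ⟨hcol⟩ := isColimit_disjoint P D hd (fun z => Set.mem_iUnion.1 (hcov.symm ▸ Set.mem_univ z))
  let b₁ : P ⟶ (ProEtS.eps X).obj U₁ := Cofan.IsColimit.desc hcol fun k => b k ≫ (ProEtS.eps X).map (j k)
  have hb₁ : ∀ k, opHom P (D k) ≫ b₁ = b k ≫ (ProEtS.eps X).map (j k) := fun k =>
    Cofan.IsColimit.fac hcol _ k
  refine ⟨U₁, b₁, x₁, ?_⟩
  refine ((presheafToSheaf K AddCommGrpCat.{u + 1}).obj _).2.isSeparated P _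
    (opens_mem_topology P (fun k : ULift.{u} (Fin n) => D k.down) fun z =>
      ⟨⟨(Set.mem_iUnion.1 (hcov.symm ▸ Set.mem_univ z)).choose⟩,
        (Set.mem_iUnion.1 (hcov.symm ▸ Set.mem_univ z)).choose_spec⟩) _ _ ?_
  rintro d f ⟨_, a, _, ⟨k⟩, rfl⟩
  rw [op_comp, Functor.map_comp, ConcreteCategory.comp_apply, ConcreteCategory.comp_apply, map_sGerm,
    hb₁ k.down, ← sGerm_map, hx₁, hx]

end Groth.Agent.ProEtLib
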