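import Groth.Agent.ProEtLib.Cover
import Mathlib.CategoryTheory.Sites.Point.OfIsCofiltered
import Mathlib.CategoryTheory.Sites.Point.Conservative

/-! the small pro-etale site has enough points -/

universe u

open CategoryTheory CategoryTheory.Limits AlgebraicGeometry Opposite MorphismProperty
open CategoryTheory.GrothendieckTopology.Point

namespace Groth.Agent.ProEtLib

set_option backward.isDefEq.respectTransparency.types false

variable {X : Scheme.{u}}

/-- clopen neighbourhoods of a point -/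
abbrev ClopenNbhd (V : X.ProEt) (w : V.left) : Type u :=
  {W : V.left.Opens // IsClopen (W : Set V.left) ∧ w ∈ W}

instance (V : X.ProEt) (w : V.left) : Nonempty (ClopenNbhd V w) :=
  ⟨⟨⊤, isClopen_univ, trivial⟩⟩

instance (V : X.ProEt) (w : V.left) : IsCofiltered (ClopenNbhd V w) := by
  have : IsCodirectedOrder (ClopenNbhd V w) :=
    ⟨fun a b => ⟨⟨a.1 ⊓ b.1, a.2.1.inter b.2.1, a.2.2, b.2.2⟩,
      fun _ h => h.1, fun _ h => h.2⟩⟩
  infer_instance

/-- the inclusion of smaller opens -/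
noncomputable abbrev opIncl {V : X.ProEt} {W W' : V.left.Opens} (h : W ≤ W') : opObj V W ⟶ opObj V W' :=
  MorphismProperty.Over.homMk (V.left.homOfLE h)
    ((Category.assoc _ _ _).symm.trans (congrArg (· ≫ V.hom) (V.left.homOfLE_ι h)))

theorem opIncl_opHom {V : X.ProEt} {W W' : V.left.Opens} (h : W ≤ W') :
    opIncl h ≫ opHom V W' = opHom V W :=
  MorphismProperty.Over.Hom.ext (V.left.homOfLE_ι h)

/-- the system of clopen neighbourhoods -/
noncomputable def nbhdFunctor (V : X.ProEt) (w : V.left) : ClopenNbhd V w ⥤ X.ProEt where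
  obj W := opObj V W.1
  map {W W'} h := opIncl (W := W.1) (W' := W'.1) h.le
  map_id W := MorphismProperty.Over.Hom.ext (V.left.homOfLE_rfl W.1)
  map_comp {A B C} f g := MorphismProperty.Over.Hom.ext (V.left.homOfLE_homOfLE f.le g.le).symm

theorem exists_lift_nbhd (V : X.ProEt) (hV : Criterion V) (w : V.left) ⦃U : X.ProEt⦄ (R : Sieve U)
    (hR : R ∈ Scheme.ProEt.topology X U) ⦃W : ClopenNbhd V w⦄ (f : (nbhdFunctor V w).obj W ⟶ U) :
    ∃ (Y : X.ProEt) (g : Y ⟶ U) (_ : R g) (W' : ClopenNbhd V w) (q : W' ⟶ W)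
      (a : (nbhdFunctor V w).obj W' ⟶ Y), a ≫ g = (nbhdFunctor V w).map q ≫ f := by
  let O : V.left.Opens := W.1
  let O' : V.left.Opens := ⟨(O : Set V.left)ᶜ, W.2.1.isClosed.isOpen_compl⟩
  let f' : opObj V O ⟶ U := f
  let R' : Sieve V :=
    { arrows := fun Y h => (∃ q : Y ⟶ opObj V O, q ≫ opHom V O = h ∧ R (q ≫ f')) ∨
        ∃ q : Y ⟶ opObj V O', q ≫ opHom V O' = h
      downward_closed := by
        rintro Y Z h (⟨q, rfl, hq⟩ | ⟨q, rfl⟩) k
        · exact Or.inl ⟨k ≫ q, by simp, by simpa using R.downward_closed hq k⟩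
        · exact Or.inr ⟨k ≫ q, by simp⟩ }
  have hR' : R' ∈ Scheme.ProEt.topology X V := by
    refine mem_topology_of_family R' _ _
      (opens_mem_topology V (fun b : ULift.{u} Bool => if b.down then O else O') fun x => ?_) ?_
    · by_cases hx : x ∈ O
      · exact ⟨⟨true⟩, hx⟩
      · exact ⟨⟨false⟩, hx⟩
    · rintro ⟨_ | _⟩
      · exact GrothendieckTopology.superset_covering _
          (fun Y h _ => Or.inr ⟨h, rfl⟩) ((Scheme.ProEt.topology X).top_mem _)
      · exact GrothendieckTopology.superset_covering _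
          (fun Y h hh => Or.inl ⟨h, rfl, hh⟩) ((Scheme.ProEt.topology X).pullback_stable f' hR)
  obtain ⟨n, D, hD, -, hcov, hmem⟩ := hV R' hR'
  obtain ⟨k, hk⟩ := Set.mem_iUnion.1 (hcov.symm ▸ Set.mem_univ w)
  rcases hmem k with ⟨q, hq, hqR⟩ | ⟨q, hq⟩
  · have hle : D k ≤ O := fun x hx => by
      have h2 : ((q.left.base ⟨x, hx⟩).1 : V.left) = x :=
        congrArg (fun e : (D k).toScheme ⟶ V.left => e.base ⟨x, hx⟩) (congrArg (fun f => f.left) hq)
      exact h2 ▸ (q.left.base ⟨x, hx⟩).2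
    have hqe : q = opIncl hle := MorphismProperty.Over.Hom.ext ((cancel_mono O.ι).1
      ((congrArg (fun f => f.left) hq).trans (V.left.homOfLE_ι hle).symm))
    exact ⟨opObj V (D k), q ≫ f', hqR, ⟨D k, hD k, hk⟩, homOfLE hle, 𝟙 _, by
      rw [hqe]; exact Category.id_comp _⟩
  · exfalso
    have h2 : ((q.left.base ⟨w, hk⟩).1 : V.left) = w :=
      congrArg (fun e : (D k).toScheme ⟶ V.left => e.base ⟨w, hk⟩) (congrArg (fun f => f.left) hq)
    exact (h2 ▸ (q.left.base ⟨w, hk⟩).2 : w ∈ O') W.2.2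

instance (V : X.ProEt) (w : V.left) : InitiallySmall.{u + 1} (ClopenNbhd V w) :=
  initiallySmall_of_essentiallySmall _

/-- the point of the pro-etale site attached to a point of a weakly contractible object -/
noncomputable def wcPoint (i : Σ V : {V : X.ProEt // Criterion V}, V.1.left) :
    GrothendieckTopology.Point.{u + 1} (Scheme.ProEt.topology X) :=
  ofIsCofiltered.{u + 1} (nbhdFunctor i.1.1 i.2) (exists_lift_nbhd i.1.1 i.1.2 i.2)

theorem conservative_wcPoint (X : Scheme.{u}) :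
    (ObjectProperty.ofObj (wcPoint (X := X))).IsConservativeFamilyOfPoints := by
  refine .mk' fun U S hS => ?_
  obtain ⟨ι, V, g, hg, h⟩ := exists_wc_cover_family U
  refine mem_topology_of_family S V g hg fun i => ?_
  have := (h i).1
  have hcr : Criterion (V i) := criterion_of_wContractible (h i).2
  let pt : ∀ w : (V i).left, ClopenNbhd (V i) w := fun w => ⟨⊤, isClopen_univ, trivial⟩
  have key : ∀ w : (V i).left, ∃ W : ClopenNbhd (V i) w, S ((nbhdFunctor (V i) w).map
      (homOfLE (show W ≤ pt w from fun _ _ => trivial)) ≫ opHom (V i) ⊤ ≫ g i) := fun w => by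
    obtain ⟨Y, k, hk, y, hy⟩ := hS ⟨wcPoint ⟨⟨V i, hcr⟩, w⟩, ObjectProperty.ofObj_apply _ _⟩
      (ofIsCofiltered.fiberMk.{u + 1} (p := nbhdFunctor (V i) w) (U := pt w) (opHom (V i) ⊤ ≫ g i))
    obtain ⟨W, a, rfl⟩ := ofIsCofiltered.fiberMk_jointly_surjective y
    have e1 : W ≤ pt w := fun _ _ => trivial
    have hy' : ofIsCofiltered.fiberMk.{u + 1} (a ≫ k) = ofIsCofiltered.fiberMk.{u + 1}
        ((nbhdFunctor (V i) w).map (homOfLE e1) ≫ opHom (V i) ⊤ ≫ g i) := by
      rw [ofIsCofiltered.fiberMk_map_comp, ← ofIsCofiltered.fiber_map_fiberMk]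
      exact hy
    obtain ⟨W', q, hq⟩ := ofIsCofiltered.exists_of_fiberMk_eq_fiberMk hy'
    refine ⟨W', ?_⟩
    have : S ((nbhdFunctor (V i) w).map q ≫ a ≫ k) :=
      S.downward_closed (S.downward_closed hk a) _
    rw [hq, ← Functor.map_comp_assoc] at this
    exact this
  choose W hW using key
  refine GrothendieckTopology.superset_covering _ ?_
    (opens_mem_topology (V i) (fun w => (W w).1) fun x => ⟨x, (W x).2.2⟩)
  rintro Y _ ⟨Z, a, _, ⟨w⟩, rfl⟩
  refine (S.pullback (g i)).downward_closed ?_ a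
  have h1 := hW w
  rw [← Category.assoc] at h1
  exact (congrArg (fun e => S (e ≫ g i)) (opIncl_opHom (W := (W w).1) (W' := ⊤) fun _ _ => trivial)).mp h1

theorem hasEnoughPoints (X : Scheme.{u}) :
    GrothendieckTopology.HasEnoughPoints.{u + 1} (Scheme.ProEt.topology X) :=
  ⟨⟨_, inferInstance, conservative_wcPoint X⟩⟩

end Groth.Agent.ProEtLib
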