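import Groth.Prelude.Def_PBC
import Groth.Agent.ProEtLib.Basic
import Groth.Agent.ProEtLib.Ring
import Mathlib.RingTheory.Flat.FaithfullyFlat.Algebra

/-! weakly contractible objects of the small pro-etale site -/

universe u

open CategoryTheory CategoryTheory.Limits AlgebraicGeometry Opposite MorphismProperty

namespace Groth.Agent.ProEtLib

set_option backward.isDefEq.respectTransparency.types false

variable {X : Scheme.{u}}

instance weaklyEtale_opObj (U : X.ProEt) (W : U.left.Opens) : WeaklyEtale (W.ι ≫ U.hom) := by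
  have : WeaklyEtale U.hom := U.prop
  infer_instance

/-- an open subscheme of an object of the pro-etale site -/
noncomputable abbrev opObj (U : X.ProEt) (W : U.left.Opens) : X.ProEt :=
  Scheme.ProEt.mk (W.ι ≫ U.hom)

/-- its inclusion -/
noncomputable abbrev opHom (U : X.ProEt) (W : U.left.Opens) : opObj U W ⟶ U :=
  MorphismProperty.Over.homMk W.ι

theorem opens_mem_topology (U : X.ProEt) {ι : Type u} (W : ι → U.left.Opens)
    (hW : ∀ x, ∃ i, x ∈ W i) :
    Sieve.generate (Presieve.ofArrows (fun i => opObj U (W i)) fun i => opHom U (W i)) ∈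
      Scheme.ProEt.topology X U := by
  refine mem_topology_of_etale (fun i => opObj U (W i)) (fun i => opHom U (W i))
    (fun i => inferInstanceAs (Etale (W i).ι)) (fun x => ?_) fun i => Sieve.le_generate _ _ _ ⟨i⟩
  obtain ⟨i, hi⟩ := hW x
  exact ⟨i, ⟨x, hi⟩, rfl⟩

theorem subsingleton_of_isEmpty (F : Sheaf (Scheme.ProEt.topology X) (Type (u + 1))) (Z : X.ProEt)
    [IsEmpty Z.left] : Subsingleton (F.obj.obj (op Z)) :=
  ⟨fun a b => (((isSheaf_iff_isSheaf_of_type _ _).1 F.2) _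
    (Scheme.ProEt.bot_mem_topology Z)).isSeparatedFor.ext (fun _ _ h => h.elim)⟩

/-- sections of a sheaf glue along a disjoint open cover, lifting along morphisms of sheaves -/
theorem exists_lift_of_disjoint {F G : Sheaf (Scheme.ProEt.topology X) (Type (u + 1))} (φ : F ⟶ G)
    (U : X.ProEt) {ι : Type u} (W : ι → U.left.Opens)
    (hd : Pairwise fun i j => Disjoint (W i : Set U.left) (W j)) (hc : ∀ x, ∃ i, x ∈ W i)
    (s : G.obj.obj (op U))
    (hs : ∀ i, ∃ t, φ.hom.app (op (opObj U (W i))) t = G.obj.map (opHom U (W i)).op s) :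
    ∃ t, φ.hom.app (op U) t = s := by
  choose t ht using hs
  have hcov := opens_mem_topology U W hc
  have hF := Presieve.isSheafFor_iff_generate _ |>.2
    (((isSheaf_iff_isSheaf_of_type _ _).1 F.2) _ hcov)
  have hG := Presieve.isSheafFor_iff_generate _ |>.2
    (((isSheaf_iff_isSheaf_of_type _ _).1 G.2) _ hcov)
  obtain ⟨t₀, ht₀, -⟩ := (Presieve.isSheafFor_arrows_iff F.obj _).1 hF t fun i j Z a b hab => by
    by_cases hij : i = j
    · subst hij
      have h1 : a.left ≫ (W i).ι = b.left ≫ (W i).ι := congrArg (fun f => f.left) hab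
      have h2 : a = b := MorphismProperty.Over.Hom.ext ((cancel_mono (W i).ι).1 h1)
      rw [h2]
    · have : IsEmpty Z.left := ⟨fun z => by
        have h1 : a.left ≫ (W i).ι = b.left ≫ (W j).ι := congrArg (fun f => f.left) hab
        have h2 : ((a.left.base z).1 : U.left) = (b.left.base z).1 :=
          congrArg (fun f : Z.left ⟶ U.left => f.base z) h1
        exact Set.disjoint_left.1 (hd hij) (a.left.base z).2 (h2 ▸ (b.left.base z).2)⟩
      exact (subsingleton_of_isEmpty F Z).elim _ _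
  refine ⟨t₀, hG.isSeparatedFor.ext ?_⟩
  rintro _ _ ⟨i⟩
  rw [← NatTrans.naturality_apply φ.hom, ht₀ i, ht i]

/-- the clopen criterion for weak contractibility -/
def Criterion (U : X.ProEt) : Prop :=
  ∀ R ∈ Scheme.ProEt.topology X U, ∃ (n : ℕ) (W : Fin n → U.left.Opens),
    (∀ k, IsClopen ((W k : Set ↥U.left))) ∧
    Pairwise (fun k l => Disjoint (W k : Set ↥U.left) (W l)) ∧ (⋃ k, (W k : Set ↥U.left)) = Set.univ ∧
    ∀ k, R.arrows (opHom U (W k))

theorem isWC_of_criterion {U : X.ProEt} (h : Criterion U) : ProEtS.IsWC U := by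
  intro F G φ hφ s
  have := (Sheaf.isLocallySurjective_iff_epi φ).2 hφ
  obtain ⟨n, W, -, hd, hc, hW⟩ := h _ (Presheaf.imageSieve_mem (Scheme.ProEt.topology X) φ.hom s)
  refine exists_lift_of_disjoint φ U (fun k : ULift.{u} (Fin n) => W k.down)
    (fun i j hij => hd fun h => hij (ULift.ext _ _ h)) (fun x => ?_) s fun i => hW i.down
  obtain ⟨k, hk⟩ := Set.mem_iUnion.1 (hc.symm ▸ Set.mem_univ x)
  exact ⟨⟨k⟩, hk⟩

/-- faithfully flat weakly etale affine covers of w-contractible affine schemes split -/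
theorem exists_section_of_wContractible {P U : Scheme.{u}} [IsAffine P] [IsAffine U] (π : P ⟶ U)
    [WeaklyEtale π] [Surjective π] (h : EtPBC.IsWContractible Γ(U, ⊤)) :
    ∃ s : U ⟶ P, s ≫ π = 𝟙 U := by
  let := π.appTop.hom.toAlgebra
  have hsq : Spec.map π.appTop = P.isoSpec.inv ≫ π ≫ U.isoSpec.hom := by
    rw [← Scheme.isoSpec_hom_naturality π, Iso.inv_hom_id_assoc]
  have hw : WeaklyEtale (Spec.map π.appTop) := by rw [hsq]; infer_instance
  have hsurj : Surjective (Spec.map π.appTop) := by rw [hsq]; infer_instance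
  have hwe : Algebra.WeaklyEtale Γ(U, ⊤) Γ(P, ⊤) := (weaklyEtale_spec_iff _).1 hw
  have hff : Module.FaithfullyFlat Γ(U, ⊤) Γ(P, ⊤) :=
    Module.FaithfullyFlat.of_comap_surjective hsurj.surj
  obtain ⟨r⟩ := h Γ(P, ⊤) hff hwe
  refine ⟨U.isoSpec.hom ≫ Spec.map (CommRingCat.ofHom r.toRingHom) ≫ P.isoSpec.inv, ?_⟩
  have hr : Spec.map (CommRingCat.ofHom r.toRingHom) ≫ Spec.map π.appTop = 𝟙 _ := by
    rw [← Spec.map_comp]
    have : π.appTop ≫ CommRingCat.ofHom r.toRingHom = 𝟙 _ := by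
      ext a
      exact r.commutes a
    rw [this]; exact Spec.map_id _
  rw [hsq] at hr
  rw [← cancel_mono U.isoSpec.hom, Category.id_comp]
  simp only [Category.assoc] at hr ⊢
  rw [hr]
  exact Category.comp_id _

theorem criterion_of_wContractible {U : X.ProEt} [IsAffine U.left]
    (h : EtPBC.IsWContractible Γ(U.left, ⊤)) : Criterion U := by
  intro R hR
  obtain ⟨T, hT, hle⟩ := (mem_topology_iff R).1 hR
  obtain ⟨ι, V, g, rfl⟩ := T.exists_eq_ofArrows
  rw [ofArrows_mem_precoverage_iff, mem_proetalePrecoverage_iff] at hT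
  obtain ⟨hqc, -, hwe⟩ := hT
  obtain ⟨n, f, O, hO, hun⟩ := QuasiCompactCover.exists_isAffineOpen_of_isCompact
    (PreZeroHypercover.mk ι (fun i => (V i).left) fun i => (g i).left)
    (show IsCompact ((⊤ : U.left.Opens) : Set U.left) from isCompact_univ)
  let c : ULift.{u} (Fin n) → Scheme.{u} := fun k => (O k.down).toScheme
  have : ∀ k, IsAffine (c k) := fun k => hO k.down
  let q : ∀ k, c k ⟶ U.left := fun k => (O k.down).ι ≫ (g (f k.down)).left
  have hq : ∀ k, WeaklyEtale (q k) := fun k => by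
    have : WeaklyEtale (g (f k.down)).left := hwe _
    infer_instance
  have : WeaklyEtale (Sigma.desc q) := IsZariskiLocalAtSource.sigmaDesc hq
  have : Surjective (Sigma.desc q) := ⟨fun x => by
    have hx : x ∈ ⋃ k, ((g (f k)).left '' (O k : Set (V (f k)).left)) := by
      rw [show (⋃ k, ((g (f k)).left '' (O k : Set (V (f k)).left))) = Set.univ from hun]
      trivial
    obtain ⟨k, y, hy, rfl⟩ := Set.mem_iUnion.1 hx
    refine ⟨(Sigma.ι c ⟨k⟩).base ⟨y, hy⟩, ?_⟩
    rw [← Scheme.Hom.comp_apply, Sigma.ι_desc]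
    rfl⟩
  obtain ⟨s, hs⟩ := exists_section_of_wContractible (Sigma.desc q) h
  have hpre : ∀ x : U.left, ∃ k : Fin n, x ∈ s ⁻¹ᵁ (Sigma.ι c ⟨k⟩).opensRange := fun x => by
    obtain ⟨⟨k, y⟩, hy⟩ := (sigmaMk c).surjective (s.base x)
    exact ⟨k.down, y, by rw [← sigmaMk_mk]; exact hy⟩
  have hd : Pairwise fun k l : Fin n =>
      Disjoint ((s ⁻¹ᵁ (Sigma.ι c ⟨k⟩).opensRange : U.left.Opens) : Set U.left)
        (s ⁻¹ᵁ (Sigma.ι c ⟨l⟩).opensRange) := fun k l hkl => by
    have := disjoint_opensRange_sigmaι c (ULift.up k) ⟨l⟩ (fun h => hkl (congrArg ULift.down h))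
    rw [← TopologicalSpace.Opens.coe_disjoint] at this
    exact this.preimage _
  refine ⟨n, fun k => s ⁻¹ᵁ (Sigma.ι c ⟨k⟩).opensRange, fun k => ⟨?_, TopologicalSpace.Opens.isOpen _⟩,
    hd, Set.eq_univ_of_forall fun x => Set.mem_iUnion.2 (hpre x), fun k => ?_⟩
  · rw [← isOpen_compl_iff]
    have : ((s ⁻¹ᵁ (Sigma.ι c ⟨k⟩).opensRange : U.left.Opens) : Set U.left)ᶜ =
        ⋃ l ∈ {l | l ≠ k}, ((s ⁻¹ᵁ (Sigma.ι c ⟨l⟩).opensRange : U.left.Opens) : Set U.left) := by
      ext x
      simp only [Set.mem_compl_iff, Set.mem_iUnion, Set.mem_ofPred_eq, exists_prop]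
      obtain ⟨l, hl⟩ := hpre x
      constructor
      · exact fun hx => ⟨l, fun h => hx (h ▸ hl), hl⟩
      · rintro ⟨m, hm, hxm⟩ hx
        exact Set.disjoint_left.1 (hd hm) hxm hx
    rw [this]
    exact isOpen_biUnion fun l _ => TopologicalSpace.Opens.isOpen _
  · let W := s ⁻¹ᵁ (Sigma.ι c ⟨k⟩).opensRange
    have hrange : Set.range (W.ι ≫ s) ⊆ Set.range (Sigma.ι c ⟨k⟩) := by
      rintro _ ⟨x, rfl⟩
      exact x.2
    let l : W.toScheme ⟶ c ⟨k⟩ := IsOpenImmersion.lift (Sigma.ι c ⟨k⟩) (W.ι ≫ s) hrange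
    have hl : l ≫ Sigma.ι c ⟨k⟩ = W.ι ≫ s := IsOpenImmersion.lift_fac _ _ _
    have hl' : (l ≫ (O k).ι) ≫ (g (f k)).left = W.ι := by
      calc (l ≫ (O k).ι) ≫ (g (f k)).left = l ≫ q ⟨k⟩ := Category.assoc _ _ _
        _ = l ≫ Sigma.ι c ⟨k⟩ ≫ Sigma.desc q := by rw [Sigma.ι_desc]
        _ = W.ι ≫ s ≫ Sigma.desc q := by rw [← Category.assoc, hl, Category.assoc]
        _ = W.ι := (congrArg (W.ι ≫ ·) hs).trans (Category.comp_id _)
    let m : opObj U W ⟶ V (f k) := MorphismProperty.Over.homMk (l ≫ (O k).ι) (by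
      calc (l ≫ (O k).ι) ≫ (V (f k)).hom = (l ≫ (O k).ι) ≫ (g (f k)).left ≫ U.hom :=
            congrArg ((l ≫ (O k).ι) ≫ ·) (MorphismProperty.Over.w (g (f k))).symm
        _ = ((l ≫ (O k).ι) ≫ (g (f k)).left) ≫ U.hom := (Category.assoc _ _ _).symm
        _ = W.ι ≫ U.hom := congrArg (· ≫ U.hom) hl')
    have hm : m ≫ g (f k) = opHom U W := MorphismProperty.Over.Hom.ext hl'
    exact hm ▸ R.downward_closed (hle _ _ ⟨f k⟩) m

theorem singleton_mem_topology {U V : X.ProEt} (g : V ⟶ U) [QuasiCompact g.left] [Surjective g.left] :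
    Sieve.generate (Presieve.singleton g) ∈ Scheme.ProEt.topology X U := by
  rw [mem_topology_iff]
  refine ⟨Presieve.singleton g, ?_, Sieve.le_generate _⟩
  rw [Scheme.ProEt.precoverage, Precoverage.mem_comap_iff, Presieve.map_singleton]
  exact @Scheme.Hom.singleton_mem_propQCPrecoverage _ _ _ g.left (weaklyEtale_left g)
    ‹Surjective g.left› ‹QuasiCompact g.left›

theorem isLocallySurjective_uliftYoneda_map {U V : X.ProEt} (g : V ⟶ U)
    (hg : Sieve.generate (Presieve.singleton g) ∈ Scheme.ProEt.topology X U) :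
    Presheaf.IsLocallySurjective (Scheme.ProEt.topology X)
      ((Scheme.ProEt.topology X).uliftYoneda.{u + 1}.map g).hom where
  imageSieve_mem {Z} s := by
    refine GrothendieckTopology.superset_covering _ ?_
      ((Scheme.ProEt.topology X).pullback_stable s.down hg)
    rintro W i ⟨_, a, _, ⟨⟩, ha⟩
    exact ⟨⟨a⟩, ULift.ext _ _ ha⟩

theorem section_of_isWC {U V : X.ProEt} (g : V ⟶ U)
    (hg : Sieve.generate (Presieve.singleton g) ∈ Scheme.ProEt.topology X U) (h : ProEtS.IsWC U) :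
    ∃ s : U ⟶ V, s ≫ g = 𝟙 U := by
  have := isLocallySurjective_uliftYoneda_map g hg
  have : Sheaf.IsLocallySurjective ((Scheme.ProEt.topology X).uliftYoneda.{u + 1}.map g) := this
  obtain ⟨t, ht⟩ := h _ _ _ ((Sheaf.isLocallySurjective_iff_epi _).1 this) ⟨𝟙 U⟩
  exact ⟨t.down, congrArg ULift.down ht⟩

theorem wContractible_of_isWC {U : X.ProEt} [IsAffine U.left] (h : ProEtS.IsWC U) :
    EtPBC.IsWContractible Γ(U.left, ⊤) := by
  intro B _ _ hff hwe
  let p : Spec (CommRingCat.of B) ⟶ U.left :=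
    Spec.map (CommRingCat.ofHom (algebraMap Γ(U.left, ⊤) B)) ≫ U.left.isoSpec.inv
  have := weaklyEtale_spec Γ(U.left, ⊤) B
  have : Surjective (Spec.map (CommRingCat.ofHom (algebraMap Γ(U.left, ⊤) B))) :=
    ⟨PrimeSpectrum.comap_surjective_of_faithfullyFlat⟩
  have : WeaklyEtale U.hom := U.prop
  let V : X.ProEt := Scheme.ProEt.mk (p ≫ U.hom)
  let g : V ⟶ U := MorphismProperty.Over.homMk p
  have : QuasiCompact g.left := inferInstanceAs (QuasiCompact p)
  have : Surjective g.left := inferInstanceAs (Surjective p)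
  obtain ⟨s, hs⟩ := section_of_isWC g (singleton_mem_topology g) h
  let r : CommRingCat.of B ⟶ Γ(U.left, ⊤) := Spec.preimage (U.left.isoSpec.inv ≫ s.left)
  have hr : CommRingCat.ofHom (algebraMap Γ(U.left, ⊤) B) ≫ r = 𝟙 _ := by
    apply Spec.map_injective
    rw [Spec.map_comp, Spec.map_preimage, Spec.map_id, Category.assoc,
      ← cancel_mono U.left.isoSpec.inv, Category.assoc, Category.assoc]
    have h1 : s.left ≫ p = 𝟙 _ := congrArg (fun f => f.left) hs
    exact (congrArg (U.left.isoSpec.inv ≫ ·) h1).trans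
      ((Category.comp_id _).trans (Category.id_comp _).symm)
  exact ⟨{ r.hom with commutes' := fun a => congrArg (fun f => f.hom a) hr }⟩

end Groth.Agent.ProEtLib
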